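import Cfsg.Agent.OddOrder.CN.Basic
import Cfsg.Agent.CITAlmost.Outer
import Cfsg.Agent.AutSuzuki.Basic
import Cfsg.Agent.Suzuki.LieModel

/-!
# Almost simple groups with nilpotent centralisers: socle of even Lie type in rank one

An outer automorphism fixing two noncommuting elements of coprime orders cannot occur.
-/

set_option autoImplicit false
set_option linter.style.haveILetI false
set_option linter.unusedSectionVars false

namespace CfsgLib.CNStructure

open Subgroup Matrix
open scoped MatrixGroups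

/-- An automorphism fixing two noncommuting elements of coprime orders. -/
def FixesPair {K : Type*} [Group K] (ψ : MulAut K) : Prop :=
  ∃ u v : K, ψ u = u ∧ ψ v = v ∧ (orderOf u).Coprime (orderOf v) ∧ ¬ Commute u v

section Generic

variable {Q K : Type*} [Group Q] [Group K] {M : Subgroup Q} [M.Normal]

/-- The action on the socle, read in an isomorphic group. -/
def actHom (e : M ≃* K) : Q →* MulAut K :=
  (MulAut.congr e).toMonoidHom.comp MulAut.conjNormal

theorem actHom_apply (e : M ≃* K) (g : Q) (x : M) :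
    actHom e g (e x) = e (MulAut.conjNormal g x) := by
  show e (MulAut.conjNormal g (e.symm (e x))) = _
  rw [MulEquiv.symm_apply_apply]

theorem commute_of_actHom (e : M ≃* K) {y : Q} {a : K} (h : actHom e y a = a) :
    Commute y (e.symm a : Q) := by
  have h1 := actHom_apply e y (e.symm a)
  rw [MulEquiv.apply_symm_apply, h] at h1
  have h2 := congrArg (fun z : M => (z : Q)) ((e.symm_apply_eq).2 h1)
  simp only [MulAut.conjNormal_apply] at h2
  exact mul_inv_eq_iff_eq_mul.1 h2.symm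

theorem actHom_symm (e : M ≃* K) (a : K) : actHom e ((e.symm a : M) : Q) = MulAut.conj a := by
  ext1 b
  obtain ⟨x, rfl⟩ := e.surjective b
  rw [actHom_apply, MulAut.conj_apply]
  obtain ⟨a', rfl⟩ := e.surjective a
  rw [MulEquiv.symm_apply_apply, ← map_inv, ← map_mul, ← map_mul]
  rfl

theorem actHom_injective (hC : centralizer (M : Set Q) = ⊥) (e : M ≃* K) :
    Function.Injective (actHom e) := by
  rw [injective_iff_map_eq_one]
  intro y hy
  have : y ∈ centralizer (M : Set Q) := mem_centralizer_iff.2 fun m hm => by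
    have h := commute_of_actHom e (y := y) (a := e ⟨m, hm⟩) (by rw [hy]; rfl)
    rw [MulEquiv.symm_apply_apply] at h
    exact h.eq.symm
  rwa [hC, Subgroup.mem_bot] at this

variable [Finite Q]

/-- An element acting as an inner automorphism times one fixing a pair lies in the socle. -/
theorem mem_of_fixesPair (hCN : Cfsg.IsCNGroup Q) (e : M ≃* K) {g : Q} {a : K} {ψ : MulAut K}
    (h : actHom e g = MulAut.conj a * ψ) (hψ : FixesPair ψ) : g ∈ M := by
  obtain ⟨u, v, hu, hv, hco, hnc⟩ := hψ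
  set m : M := e.symm a with hm
  have hy : actHom e ((m : Q)⁻¹ * g) = ψ := by
    rw [map_mul, map_inv, hm, actHom_symm, h, inv_mul_cancel_left]
  by_cases hy1 : (m : Q)⁻¹ * g = 1
  · rw [inv_mul_eq_one.1 hy1 |>.symm]
    exact m.2
  refine absurd ?_ hnc
  have h1 := OddOrder.CN.commute_of_coprime hCN hy1
    (commute_of_actHom e (a := u) (by rw [hy, hu])).symm
    (commute_of_actHom e (a := v) (by rw [hy, hv])).symm
    (by rwa [orderOf_coe, orderOf_coe, e.symm.orderOf_eq, e.symm.orderOf_eq])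
  have h2 : Commute (e.symm u) (e.symm v) := Subtype.ext h1.eq
  simpa using h2.map e

theorem eq_top_of_fixesPair (hCN : Cfsg.IsCNGroup Q) (e : M ≃* K)
    (h : ∀ φ : MulAut K, ∃ a ψ, φ = MulAut.conj a * ψ ∧ FixesPair ψ) : M = ⊤ :=
  eq_top_iff.2 fun g _ => let ⟨_, _, h1, h2⟩ := h (actHom e g); mem_of_fixesPair hCN e h1 h2

end Generic

variable {F : Type*} [Field F] [Fintype F]

/-- An involution and an element of order three over the prime field. -/
theorem exists_pair_psl_two [CharP F 2] (σ : F ≃+* F) :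
    FixesPair (AutPSL.toPSLAut (AutPSL.fieldSL σ) :
      MulAut (Matrix.ProjectiveSpecialLinearGroup (Fin 2) F)) := by
  have h11 : (1 : F) + 1 = 0 := CharTwo.add_self_eq_zero 1
  have hinj : ∀ s t : SL(2, F),
      (QuotientGroup.mk s : Matrix.ProjectiveSpecialLinearGroup (Fin 2) F) = QuotientGroup.mk t →
        (s : Matrix (Fin 2) (Fin 2) F) = t := by
    intro s t h
    rw [QuotientGroup.eq, Matrix.SpecialLinearGroup.mem_center_iff] at h
    obtain ⟨r, hr, hr'⟩ := h
    rw [Fintype.card_fin, sq] at hr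
    have h1 : r = 1 := by
      rcases mul_self_eq_one_iff.1 hr with h | h
      · exact h
      · rw [h, CharTwo.neg_eq]
    rw [h1, map_one] at hr'
    have h3 : s⁻¹ * t = 1 := Subtype.ext hr'.symm
    rw [inv_mul_eq_one] at h3
    rw [h3]
  let u : SL(2, F) := ⟨!![1, 1; 0, 1], by simp [Matrix.det_fin_two_of]⟩
  let d : SL(2, F) := ⟨!![0, 1; 1, 1], by simp [Matrix.det_fin_two_of, CharTwo.neg_eq]⟩
  have hu2 : u ^ 2 = 1 := by
    rw [sq]; apply Subtype.ext
    show (!![1, 1; 0, 1] : Matrix (Fin 2) (Fin 2) F) * !![1, 1; 0, 1] = 1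
    ext i j; fin_cases i <;> fin_cases j <;> simp [Matrix.mul_apply, h11]
  have hd3 : d ^ 3 = 1 := by
    rw [pow_succ, sq]; apply Subtype.ext
    show (!![0, 1; 1, 1] : Matrix (Fin 2) (Fin 2) F) * !![0, 1; 1, 1] * !![0, 1; 1, 1] = 1
    ext i j; fin_cases i <;> fin_cases j <;> simp [Matrix.mul_apply, h11]
  refine ⟨QuotientGroup.mk u, QuotientGroup.mk d, ?_, ?_, ?_, fun hc => ?_⟩
  · rw [AutPSL.toPSLAut_mk]; congr 1; apply Subtype.ext
    rw [AutPSL.fieldSL_coe]; ext i j; fin_cases i <;> fin_cases j <;> simp [u]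
  · rw [AutPSL.toPSLAut_mk]; congr 1; apply Subtype.ext
    rw [AutPSL.fieldSL_coe]; ext i j; fin_cases i <;> fin_cases j <;> simp [d]
  · refine Nat.Coprime.coprime_dvd_left (orderOf_dvd_of_pow_eq_one (n := 2) ?_)
      (Nat.Coprime.coprime_dvd_right (orderOf_dvd_of_pow_eq_one (n := 3) ?_) (by norm_num))
    · rw [← QuotientGroup.mk_pow, hu2, QuotientGroup.mk_one]
    · rw [← QuotientGroup.mk_pow, hd3, QuotientGroup.mk_one]
  · have h := congrFun (congrFun (hinj (u * d) (d * u) hc) 0) 0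
    rw [Matrix.SpecialLinearGroup.coe_mul, Matrix.SpecialLinearGroup.coe_mul] at h
    simp [u, d, Matrix.mul_apply, h11] at h

theorem exists_form_psl_two [CharP F 2] (φ : MulAut (Matrix.ProjectiveSpecialLinearGroup (Fin 2) F)) :
    ∃ a ψ, φ = MulAut.conj a * ψ ∧ FixesPair ψ := by
  obtain ⟨g₀, σ, γ, hγ, rfl⟩ := AutPSL.exists_form le_rfl φ
  obtain ⟨w, rfl⟩ : ∃ w : GL (Fin 2) F, γ = AutPSL.conjSL w := by
    rcases hγ with rfl | rfl
    · exact ⟨1, (map_one AutPSL.conjSL).symm⟩
    · exact AutPSL.invTransSL_fin_two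
  obtain ⟨a, ha⟩ := CITAlmost.exists_inner g₀
  obtain ⟨b, hb⟩ := CITAlmost.exists_inner w
  refine ⟨a * AutPSL.toPSLAut (AutPSL.fieldSL σ) b, AutPSL.toPSLAut (AutPSL.fieldSL σ), ?_,
    exists_pair_psl_two σ⟩
  rw [map_mul, map_mul, ha, hb, map_mul, mul_assoc, mul_assoc]
  congr 1
  ext1 x
  simp [MulAut.mul_apply, map_mul, map_inv]

theorem exists_pair_suzuki {m : ℕ} (hS : Suzuki.SzField F m) (σ : F ≃+* F) :
    FixesPair (AutSuzuki.fieldAut hS σ) := by
  haveI := hS.charP
  have h11 : (1 : F) + 1 = 0 := CharTwo.add_self_eq_zero 1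
  set w := Suzuki.weylEl hS with hw
  set z := Suzuki.uniEl hS (0 : F) 1 with hz
  have hfw : AutSuzuki.fieldAut hS σ w = w := Subtype.ext (AutSuzuki.map_weyl σ)
  have hfz : AutSuzuki.fieldAut hS σ z = z := by
    rw [hz, AutSuzuki.fieldAut_uniEl, map_zero, map_one]
  refine ⟨w, w * z, hfw, by rw [map_mul, hfw, hfz], ?_, fun hc => ?_⟩
  · refine Nat.Coprime.coprime_dvd_left (orderOf_dvd_of_pow_eq_one (n := 2) ?_)
      (Nat.Coprime.coprime_dvd_right (orderOf_dvd_of_pow_eq_one (n := 5) ?_) (by norm_num))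
    · apply Subtype.ext; apply Subtype.ext
      simp only [sq, hw, Suzuki.weylEl, Subgroup.coe_mul, Subgroup.coe_one,
        Matrix.SpecialLinearGroup.coe_mul, Matrix.SpecialLinearGroup.coe_one, Suzuki.weyl_val]
      ext i j; fin_cases i <;> fin_cases j <;> simp [Suzuki.weylMat, Matrix.mul_apply, Fin.sum_univ_four]
    · apply Subtype.ext; apply Subtype.ext
      have hx : (((w * z : Cfsg.Sz F m) : Matrix.SpecialLinearGroup (Fin 4) F) :
          Matrix (Fin 4) (Fin 4) F) = !![0, 0, 0, 1; 0, 0, 1, 0; 0, 1, 0, 1; 1, 0, 1, 1] := by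
        simp only [hw, hz, Suzuki.weylEl, Suzuki.uniEl, Subgroup.coe_mul,
          Matrix.SpecialLinearGroup.coe_mul, Suzuki.weyl_val, Suzuki.uni_val]
        ext i j
        fin_cases i <;> fin_cases j <;>
          simp [Suzuki.weylMat, Suzuki.uniMat, Suzuki.szF, Matrix.mul_apply, Fin.sum_univ_four]
      rw [SubmonoidClass.coe_pow, Matrix.SpecialLinearGroup.coe_pow, hx]
      simp only [Subgroup.coe_one, Matrix.SpecialLinearGroup.coe_one, pow_succ, pow_zero, one_mul]
      ext i j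
      fin_cases i <;> fin_cases j <;> simp [Matrix.mul_apply, Fin.sum_univ_four, h11]
  · have h := congrArg (fun x : Cfsg.Sz F m =>
      ((x : Matrix.SpecialLinearGroup (Fin 4) F) : Matrix (Fin 4) (Fin 4) F) 0 2) hc.eq
    simp [hw, hz, Suzuki.weylEl, Suzuki.uniEl, Suzuki.weyl_val, Suzuki.uni_val, Suzuki.weylMat,
      Suzuki.uniMat, Suzuki.szF, Matrix.mul_apply, Fin.sum_univ_four] at h

theorem exists_form_suzuki {m : ℕ} (hS : Suzuki.SzField F m) (φ : MulAut (Cfsg.Sz F m)) :
    ∃ a ψ, φ = MulAut.conj a * ψ ∧ FixesPair ψ := by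
  obtain ⟨σ, hσ⟩ := (AutSuzuki.fieldOut_bijective hS).2 (QuotientGroup.mk φ)
  have h1 : φ * (AutSuzuki.fieldAut hS σ)⁻¹ ∈ Cfsg.Inn (Cfsg.Sz F m) := by
    rw [← QuotientGroup.eq_one_iff, QuotientGroup.mk_mul, QuotientGroup.mk_inv, mul_inv_eq_one]
    exact hσ.symm
  obtain ⟨a, ha⟩ := h1
  exact ⟨a, _, by rw [ha, inv_mul_cancel_right], exists_pair_suzuki hS σ⟩

end CfsgLib.CNStructure
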