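import Cfsg.Agent.CNStructure.Almost
import Mathlib.NumberTheory.LegendreSymbol.QuadraticChar.GaussSum

/-!
# Almost simple groups with nilpotent centralisers: socle `PSL₂` of odd order, or `PSL₃(4)`
-/

set_option autoImplicit false
set_option linter.style.haveILetI false
set_option linter.unusedSectionVars false

namespace CfsgLib.CNStructure

open Subgroup Matrix
open scoped MatrixGroups
open CfsgLib.AutPSL (conjSL fieldSL toPSLAut)

variable {F : Type*} [Field F] [Fintype F]

/-- A linear transformation of square determinant gives an inner automorphism of `PSL₂`. -/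
theorem exists_inner_of_sq {g : GL (Fin 2) F} (h : IsSquare (g : Matrix (Fin 2) (Fin 2) F).det) :
    ∃ a : Matrix.ProjectiveSpecialLinearGroup (Fin 2) F, toPSLAut (conjSL g) = MulAut.conj a := by
  obtain ⟨c, hc⟩ := h
  have hg0 : (g : Matrix (Fin 2) (Fin 2) F).det ≠ 0 := Matrix.det_ne_zero_of_left_inverse g.inv_val
  have hc0 : c ≠ 0 := fun h => hg0 (by rw [hc, h, mul_zero])
  let h : SL(2, F) := ⟨c⁻¹ • (g : Matrix (Fin 2) (Fin 2) F), by
    rw [Matrix.det_smul, Fintype.card_fin, hc]; field_simp⟩
  refine ⟨QuotientGroup.mk h, ?_⟩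
  have hg : g = Matrix.GeneralLinearGroup.scalar (Fin 2) (Units.mk0 c hc0) *
      Matrix.SpecialLinearGroup.toGL h := by
    apply Units.ext
    show (g : Matrix (Fin 2) (Fin 2) F) = Matrix.scalar (Fin 2) c * (h : Matrix (Fin 2) (Fin 2) F)
    rw [Matrix.scalar_apply, ← Matrix.smul_eq_diagonal_mul, smul_smul, mul_inv_cancel₀ hc0, one_smul]
  conv_lhs => rw [hg, map_mul, AutPSL.conjSL_scalar, one_mul, AutPSL.conjSL_toGL, AutPSL.toPSLAut_conj]

theorem isSquare_mul_of_not {a b : F} (ha : ¬ IsSquare a) (hb : ¬ IsSquare b) : IsSquare (a * b) := by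
  classical
  have h0 : a * b ≠ 0 := mul_ne_zero (fun e => ha (e ▸ ⟨0, (mul_zero 0).symm⟩))
    (fun e => hb (e ▸ ⟨0, (mul_zero 0).symm⟩))
  rw [← quadraticChar_one_iff_isSquare h0, map_mul,
    quadraticChar_neg_one_iff_not_isSquare.2 ha, quadraticChar_neg_one_iff_not_isSquare.2 hb]
  norm_num

theorem mul_self_ne_two : ∀ r : ZMod 3, r * r ≠ 2 := by decide

/-- Every automorphism of `PSL₂` is a semilinear conjugation. -/
theorem exists_semilinear (φ : MulAut (Matrix.ProjectiveSpecialLinearGroup (Fin 2) F)) :
    ∃ (g : GL (Fin 2) F) (σ : F ≃+* F), φ = toPSLAut (conjSL g * fieldSL σ) := by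
  obtain ⟨g₀, σ, γ, hγ, rfl⟩ := AutPSL.exists_form le_rfl φ
  rcases hγ with rfl | rfl
  · exact ⟨g₀, σ, by rw [mul_one]⟩
  · obtain ⟨w, hw⟩ := AutPSL.invTransSL_fin_two (F := F)
    refine ⟨g₀ * AutPSL.mapGL σ w, σ, ?_⟩
    rw [hw, mul_assoc, AutPSL.fieldSL_mul_conjSL, ← mul_assoc, map_mul conjSL]

/-- Elements of `SL₂` with the same image in `PSL₂` agree up to sign. -/
theorem eq_or_neg_of_mk {s t : SL(2, F)}
    (h : (QuotientGroup.mk s : Matrix.ProjectiveSpecialLinearGroup (Fin 2) F) = QuotientGroup.mk t) :
    (t : Matrix (Fin 2) (Fin 2) F) = s ∨ (t : Matrix (Fin 2) (Fin 2) F) = -(s : Matrix (Fin 2) (Fin 2) F) := by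
  rw [QuotientGroup.eq, Matrix.SpecialLinearGroup.mem_center_iff] at h
  obtain ⟨r, hr, hr'⟩ := h
  rw [Fintype.card_fin, sq] at hr
  have ht : (t : Matrix (Fin 2) (Fin 2) F) = s * ((s⁻¹ * t : SL(2, F)) : Matrix (Fin 2) (Fin 2) F) := by
    rw [← Matrix.SpecialLinearGroup.coe_mul, mul_inv_cancel_left]
  rw [← hr'] at ht
  rcases mul_self_eq_one_iff.1 hr with rfl | rfl
  · exact Or.inl (by rw [ht, map_one, mul_one])
  · exact Or.inr (by rw [ht, map_neg, map_one, mul_neg, mul_one])

/-- Field automorphisms fix an element of order four and one of order three of `SL₂` in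
characteristic three. -/
theorem fixesPair_field [CharP F 3] (σ : F ≃+* F) :
    FixesPair (toPSLAut (fieldSL σ) : MulAut (Matrix.ProjectiveSpecialLinearGroup (Fin 2) F)) := by
  have h3 : (3 : F) = 0 := by exact_mod_cast CharP.cast_eq_zero F 3
  let u : SL(2, F) := ⟨!![0, -1; 1, 0], by simp [Matrix.det_fin_two_of]⟩
  let v : SL(2, F) := ⟨!![1, 1; 0, 1], by simp [Matrix.det_fin_two_of]⟩
  refine ⟨QuotientGroup.mk u, QuotientGroup.mk v, ?_, ?_, ?_, fun hc => ?_⟩
  · rw [AutPSL.toPSLAut_mk]; congr 1; apply Subtype.ext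
    rw [AutPSL.fieldSL_coe]; ext i j; fin_cases i <;> fin_cases j <;> simp [u]
  · rw [AutPSL.toPSLAut_mk]; congr 1; apply Subtype.ext
    rw [AutPSL.fieldSL_coe]; ext i j; fin_cases i <;> fin_cases j <;> simp [v]
  · refine Nat.Coprime.coprime_dvd_left (orderOf_dvd_of_pow_eq_one (n := 4) ?_)
      (Nat.Coprime.coprime_dvd_right (orderOf_dvd_of_pow_eq_one (n := 3) ?_) (by norm_num))
    · have h : u ^ 4 = 1 := by
        apply Subtype.ext
        rw [Matrix.SpecialLinearGroup.coe_pow]
        simp only [pow_succ, pow_zero, one_mul, Matrix.SpecialLinearGroup.coe_one, u]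
        ext i j; fin_cases i <;> fin_cases j <;> simp [Matrix.mul_apply, Fin.sum_univ_two]
      rw [← QuotientGroup.mk_pow, h, QuotientGroup.mk_one]
    · have h : v ^ 3 = 1 := by
        apply Subtype.ext
        rw [Matrix.SpecialLinearGroup.coe_pow]
        simp only [pow_succ, pow_zero, one_mul, Matrix.SpecialLinearGroup.coe_one, v]
        ext i j; fin_cases i <;> fin_cases j <;> simp [Matrix.mul_apply, Fin.sum_univ_two]
        linear_combination h3
      rw [← QuotientGroup.mk_pow, h, QuotientGroup.mk_one]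
  · rcases eq_or_neg_of_mk (s := u * v) (t := v * u) hc with h | h <;>
      · rw [Matrix.SpecialLinearGroup.coe_mul, Matrix.SpecialLinearGroup.coe_mul] at h
        have h' := congrFun (congrFun h 0) 0
        simp [u, v, Matrix.mul_apply, Fin.sum_univ_two] at h'

/-- Characteristic three: the socle has index at most two. -/
theorem index_le_two_of_three {Q : Type*} [Group Q] [Finite Q] [CharP F 3] (hCN : Cfsg.IsCNGroup Q)
    (M : Subgroup Q) [M.Normal]
    (e : M ≃* Matrix.ProjectiveSpecialLinearGroup (Fin 2) F) : M.index ≤ 2 := by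
  classical
  have hform : ∀ g : Q, g ∉ M → ∃ (h : GL (Fin 2) F) (σ : F ≃+* F),
      actHom e g = toPSLAut (conjSL h * fieldSL σ) ∧ ¬ IsSquare (h : Matrix (Fin 2) (Fin 2) F).det := by
    intro g hg
    obtain ⟨h, σ, hh⟩ := exists_semilinear (actHom e g)
    refine ⟨h, σ, hh, fun hsq => hg ?_⟩
    obtain ⟨a, ha⟩ := exists_inner_of_sq hsq
    exact mem_of_fixesPair hCN e (by rw [hh, map_mul, ha]) (fixesPair_field σ)
  by_cases htop : M = ⊤
  · rw [htop, index_top]; norm_num
  obtain ⟨g₀, hg₀⟩ : ∃ g₀, g₀ ∉ M := by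
    by_contra h
    push Not at h
    exact htop (eq_top_iff.2 fun g _ => h g)
  refine (Nat.le_of_eq ?_)
  rw [index_eq_two_iff]
  refine ⟨g₀, fun b => ?_⟩
  rcases em (b ∈ M) with hb | hb
  · exact Or.inr ⟨hb, fun h => hg₀ (by simpa using M.mul_mem (M.inv_mem hb) h)⟩
  refine Or.inl ⟨?_, hb⟩
  obtain ⟨h₁, σ₁, e₁, n₁⟩ := hform b hb
  obtain ⟨h₂, σ₂, e₂, n₂⟩ := hform g₀ hg₀
  have hprod : actHom e (b * g₀) =
      toPSLAut (conjSL (h₁ * AutPSL.mapGL σ₁ h₂) * fieldSL (σ₁ * σ₂)) := by
    rw [map_mul (actHom e), e₁, e₂, ← map_mul, map_mul fieldSL, map_mul conjSL]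
    congr 1
    rw [mul_assoc, ← mul_assoc (fieldSL σ₁), AutPSL.fieldSL_mul_conjSL]
    group
  obtain ⟨a, ha⟩ := exists_inner_of_sq (g := h₁ * AutPSL.mapGL σ₁ h₂) (by
    rw [Units.val_mul, Matrix.det_mul]
    refine isSquare_mul_of_not n₁ fun hsq => n₂ ?_
    have hdet : ((AutPSL.mapGL σ₁ h₂ : GL (Fin 2) F) : Matrix (Fin 2) (Fin 2) F).det =
        σ₁ (h₂ : Matrix (Fin 2) (Fin 2) F).det := (RingHom.map_det σ₁.toRingHom _).symm
    rw [hdet] at hsq
    simpa using hsq.map σ₁.symm)
  exact mem_of_fixesPair hCN e (by rw [hprod, map_mul, ha]) (fixesPair_field _)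

/-- Prime fields of order at least seven, congruent to five or seven modulo twelve. -/
theorem exists_form_psl_two_prime {p : ℕ} [Fact p.Prime] [CharP F p] (hF : Fintype.card F = p)
    (h7 : 7 ≤ p) (h12 : p % 12 = 5 ∨ p % 12 = 7)
    (φ : MulAut (Matrix.ProjectiveSpecialLinearGroup (Fin 2) F)) :
    ∃ a ψ, φ = MulAut.conj a * ψ ∧ FixesPair ψ := by
  classical
  have hne : ∀ k : ℕ, ¬ p ∣ k → (k : F) ≠ 0 := fun k hk h => hk ((CharP.cast_eq_zero_iff F p k).1 h)
  have h2 : (2 : F) ≠ 0 := by exact_mod_cast hne 2 (fun h => by have := Nat.le_of_dvd two_pos h; omega)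
  have h30 : (3 : F) ≠ 0 := by
    exact_mod_cast hne 3 (fun h => by have := Nat.le_of_dvd three_pos h; omega)
  have hrc : ringChar F ≠ 2 := by rw [ringChar.eq F p]; omega
  -- three is not a square
  haveI := Fact.mk Nat.prime_three
  have h3 : ¬ IsSquare (3 : F) := by
    rw [show (3 : F) = ((3 : ℕ) : F) by norm_num,
      FiniteField.isSquare_odd_prime_iff hrc (by norm_num), not_not, hF]
    have hm : ((p : ℕ) : ZMod 3) = ((p % 3 : ℕ) : ZMod 3) := (ZMod.natCast_mod p 3).symm
    rw [ZMod.χ₄_nat_eq_if_mod_four, hm]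
    rcases h12 with h | h
    · rw [if_neg (by omega), if_pos (by omega), show p % 3 = 2 by omega]
      rw [quadraticChar_neg_one_iff_not_isSquare]
      rintro ⟨r, hr⟩
      push_cast at hr
      exact mul_self_ne_two r (by rw [← hr]; rfl)
    · rw [if_neg (by omega), if_neg (by omega), show p % 3 = 1 by omega]
      rw [quadraticChar_neg_one_iff_not_isSquare]
      rintro ⟨r, hr⟩
      push_cast at hr
      exact mul_self_ne_two r (by rw [← hr]; rfl)
  obtain ⟨a, c, hac⟩ : ∃ a c : F, a * a - a * c + c * c = -1 := by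
    obtain ⟨x, y, hxy⟩ := FiniteField.exists_root_sum_quadratic
      (f := (Polynomial.X ^ 2 + Polynomial.C (4 : F))) (g := Polynomial.C (3 : F) * Polynomial.X ^ 2)
      (Polynomial.degree_X_pow_add_C two_pos _) (Polynomial.degree_C_mul_X_pow 2 h30) (by omega)
    simp only [Polynomial.eval_add, Polynomial.eval_pow, Polynomial.eval_X, Polynomial.eval_C,
      Polynomial.eval_mul] at hxy
    refine ⟨(x + y) / 2, y, ?_⟩
    field_simp
    linear_combination hxy
  let d : GL (Fin 2) F := Matrix.GeneralLinearGroup.mkOfDetNeZero !![1, -2; 2, -1] (by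
    rw [Matrix.det_fin_two_of]; intro h; exact h30 (by linear_combination h))
  have hd : (d : Matrix (Fin 2) (Fin 2) F) = !![1, -2; 2, -1] := rfl
  let u : SL(2, F) := ⟨!![a, c - a; c, -a], by
    rw [Matrix.det_fin_two_of]; linear_combination -hac⟩
  let v : SL(2, F) := ⟨!![0, -1; 1, -1], by simp [Matrix.det_fin_two_of]⟩
  have hpair : FixesPair (toPSLAut (conjSL d) : MulAut (Matrix.ProjectiveSpecialLinearGroup (Fin 2) F)) := by
    refine ⟨QuotientGroup.mk u, QuotientGroup.mk v, ?_, ?_, ?_, fun hcc => ?_⟩
    · have hneg : (conjSL d u : Matrix (Fin 2) (Fin 2) F) = -(u : Matrix (Fin 2) (Fin 2) F) := by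
        have h1 : (d : Matrix (Fin 2) (Fin 2) F) * u = -(u : Matrix (Fin 2) (Fin 2) F) * d := by
          ext i j
          fin_cases i <;> fin_cases j <;> simp [hd, u, Matrix.mul_apply, Fin.sum_univ_two] <;> ring
        rw [AutPSL.conjSL_coe, h1, Units.mul_inv_cancel_right]
      rw [AutPSL.toPSLAut_mk, QuotientGroup.eq, Matrix.SpecialLinearGroup.mem_center_iff]
      refine ⟨-1, by simp, ?_⟩
      have h1 : conjSL d u = -u := Subtype.ext (by rw [hneg, Matrix.SpecialLinearGroup.coe_neg])
      rw [h1, inv_neg, neg_mul, inv_mul_cancel, Matrix.SpecialLinearGroup.coe_neg,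
        Matrix.SpecialLinearGroup.coe_one, map_neg, map_one]
    · rw [AutPSL.toPSLAut_mk]
      congr 1
      apply Subtype.ext
      have h1 : (d : Matrix (Fin 2) (Fin 2) F) * v = (v : Matrix (Fin 2) (Fin 2) F) * d := by
        ext i j
        fin_cases i <;> fin_cases j <;> simp [hd, v, Matrix.mul_apply, Fin.sum_univ_two] <;> ring
      rw [AutPSL.conjSL_coe, h1, Units.mul_inv_cancel_right]
    · refine Nat.Coprime.coprime_dvd_left (orderOf_dvd_of_pow_eq_one (n := 4) ?_)
        (Nat.Coprime.coprime_dvd_right (orderOf_dvd_of_pow_eq_one (n := 3) ?_) (by norm_num))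
      · have h : u ^ 4 = 1 := by
          have hs : u * u = -1 := by
            apply Subtype.ext
            rw [Matrix.SpecialLinearGroup.coe_mul, Matrix.SpecialLinearGroup.coe_neg,
              Matrix.SpecialLinearGroup.coe_one]
            ext i j
            fin_cases i <;> fin_cases j <;> simp [u, Matrix.mul_apply, Fin.sum_univ_two] <;>
              first | linear_combination hac | ring
          rw [show (4 : ℕ) = 2 * 2 from rfl, pow_mul, pow_two, pow_two, hs, neg_mul_neg, one_mul]
        rw [← QuotientGroup.mk_pow, h, QuotientGroup.mk_one]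
      · have h : v ^ 3 = 1 := by
          apply Subtype.ext
          rw [Matrix.SpecialLinearGroup.coe_pow]
          simp only [pow_succ, pow_zero, one_mul, Matrix.SpecialLinearGroup.coe_one, v]
          ext i j; fin_cases i <;> fin_cases j <;> simp [Matrix.mul_apply, Fin.sum_univ_two]
        rw [← QuotientGroup.mk_pow, h, QuotientGroup.mk_one]
    · have hz : a = 0 ∧ c = 0 := by
        rcases eq_or_neg_of_mk (s := u * v) (t := v * u) hcc with h | h <;>
        · rw [Matrix.SpecialLinearGroup.coe_mul, Matrix.SpecialLinearGroup.coe_mul] at h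
          have e00 := congrFun (congrFun h 0) 0
          have e10 := congrFun (congrFun h 1) 0
          simp [u, v, Matrix.mul_apply, Fin.sum_univ_two] at e00 e10
          have h3a : (3 : F) * a = 0 := by
            first
              | linear_combination e00
              | linear_combination -e00
              | linear_combination e10
              | linear_combination -e10
              | linear_combination 2 * e10 - e00
              | linear_combination e00 - 2 * e10
              | linear_combination 2 * e00 - e10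
              | linear_combination e10 - 2 * e00
              | linear_combination e00 + 2 * e10
              | linear_combination -e00 - 2 * e10
              | linear_combination 2 * e00 + e10
              | linear_combination -2 * e00 - e10
              | linear_combination e00 + e10
              | linear_combination -e00 - e10
              | linear_combination e00 - e10
              | linear_combination e10 - e00
              | linear_combination 3 * e00
              | linear_combination -3 * e00
              | linear_combination 3 * e10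
              | linear_combination -3 * e10
              | linear_combination 3 * (e00 + e10)
              | linear_combination -3 * (e00 + e10)
              | linear_combination 3 * (e00 - e10)
              | linear_combination 3 * (e10 - e00)
          have h3c : (3 : F) * c = 0 := by
            first
              | linear_combination e00
              | linear_combination -e00
              | linear_combination e10
              | linear_combination -e10
              | linear_combination 2 * e10 - e00
              | linear_combination e00 - 2 * e10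
              | linear_combination 2 * e00 - e10
              | linear_combination e10 - 2 * e00
              | linear_combination e00 + 2 * e10
              | linear_combination -e00 - 2 * e10
              | linear_combination 2 * e00 + e10
              | linear_combination -2 * e00 - e10
              | linear_combination e00 + e10
              | linear_combination -e00 - e10
              | linear_combination e00 - e10
              | linear_combination e10 - e00
              | linear_combination 3 * e00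
              | linear_combination -3 * e00
              | linear_combination 3 * e10
              | linear_combination -3 * e10
              | linear_combination 3 * (e00 + e10)
              | linear_combination -3 * (e00 + e10)
              | linear_combination 3 * (e00 - e10)
              | linear_combination 3 * (e10 - e00)
          exact ⟨(mul_eq_zero.1 h3a).resolve_left h30, (mul_eq_zero.1 h3c).resolve_left h30⟩
      rw [hz.1, hz.2] at hac
      simp at hac
  -- field automorphisms of a prime field are trivial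
  obtain ⟨g, σ, rfl⟩ := exists_semilinear φ
  have hσ : σ = 1 := by
    have hinj : Function.Injective (ZMod.castHom dvd_rfl F : ZMod p →+* F) := RingHom.injective _
    have hbij := (Fintype.bijective_iff_injective_and_card _).2 ⟨hinj, by rw [ZMod.card, hF]⟩
    ext x
    obtain ⟨y, rfl⟩ := hbij.2 x
    exact DFunLike.congr_fun (Subsingleton.elim (σ.toRingHom.comp (ZMod.castHom dvd_rfl F))
      (ZMod.castHom dvd_rfl F)) y
  rw [hσ, map_one, mul_one]
  by_cases hsq : IsSquare (g : Matrix (Fin 2) (Fin 2) F).det
  · obtain ⟨b, hb⟩ := exists_inner_of_sq hsq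
    obtain ⟨u', v', -, -, hco, hnc⟩ := hpair
    exact ⟨b, 1, by rw [hb, mul_one], u', v', rfl, rfl, hco, hnc⟩
  · obtain ⟨b, hb⟩ := exists_inner_of_sq (g := g * d⁻¹) (by
      rw [Units.val_mul, Matrix.det_mul]
      have hdet : (d : Matrix (Fin 2) (Fin 2) F).det = 3 := by
        rw [hd, Matrix.det_fin_two_of]; ring
      have hinv : ((d⁻¹ : GL (Fin 2) F) : Matrix (Fin 2) (Fin 2) F).det = (3 : F)⁻¹ := by
        refine eq_inv_of_mul_eq_one_left ?_
        rw [← hdet, ← Matrix.det_mul, Units.inv_mul, Matrix.det_one]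
      rw [hinv]
      refine isSquare_mul_of_not hsq fun h => h3 ?_
      obtain ⟨r, hr⟩ := h
      exact ⟨r⁻¹, by rw [← mul_inv, ← hr, inv_inv]⟩)
    exact ⟨b, _, by rw [← hb, ← map_mul, ← map_mul, inv_mul_cancel_right], hpair⟩

/-- The socle `PSL₃` over four elements. -/
theorem exists_form_psl_three (hF : Fintype.card F = 4)
    (φ : MulAut (Matrix.ProjectiveSpecialLinearGroup (Fin 3) F)) :
    ∃ a ψ, φ = MulAut.conj a * ψ ∧ FixesPair ψ := by
  classical
  haveI := Fact.mk Nat.prime_two
  haveI : CharP F 2 := charP_of_card_eq_prime_pow (show Fintype.card F = 2 ^ 2 by rw [hF]; rfl)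
  obtain ⟨g, σ, γ, hγ, rfl⟩ := AutPSL.exists_form (by norm_num) φ
  set c := (g : Matrix (Fin 3) (Fin 3) F).det with hc
  have hc0 : c ≠ 0 := Matrix.det_ne_zero_of_left_inverse g.inv_val
  let D : Matrix (Fin 3) (Fin 3) F := !![c, c + 1, c + 1; c + 1, c, c + 1; c + 1, c + 1, c]
  have hD : D.det = c := by
    simp [D, Matrix.det_fin_three]
    ring_nf
    simp [CharTwo.two_eq_zero, show (3 : F) = 1 by linear_combination CharTwo.two_eq_zero (R := F),
      show (4 : F) = 0 by linear_combination 2 * CharTwo.two_eq_zero (R := F)]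
  let d : GL (Fin 3) F := Matrix.GeneralLinearGroup.mkOfDetNeZero D (by rw [hD]; exact hc0)
  have hd : (d : Matrix (Fin 3) (Fin 3) F) = D := rfl
  have hdet : ((g * d⁻¹ : GL (Fin 3) F) : Matrix (Fin 3) (Fin 3) F).det = 1 := by
    have h1 : (d : Matrix (Fin 3) (Fin 3) F).det * ((d⁻¹ : GL (Fin 3) F) : Matrix (Fin 3) (Fin 3) F).det = 1 := by
      rw [← Matrix.det_mul, Units.mul_inv, Matrix.det_one]
    rw [hd, hD] at h1
    rw [Units.val_mul, Matrix.det_mul, ← hc, h1]
  let s : SL(3, F) := ⟨_, hdet⟩
  refine ⟨QuotientGroup.mk s, toPSLAut (conjSL d * fieldSL σ * γ), ?_, ?_⟩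
  · have hs : Matrix.SpecialLinearGroup.toGL s = g * d⁻¹ := Units.ext rfl
    rw [← AutPSL.toPSLAut_conj, ← map_mul, ← AutPSL.conjSL_toGL, hs, ← mul_assoc, ← mul_assoc,
      ← map_mul, inv_mul_cancel_right]
  let u : SL(3, F) := ⟨!![0, 1, 0; 1, 0, 0; 0, 0, 1], by simp [Matrix.det_fin_three, CharTwo.neg_eq]⟩
  let v : SL(3, F) := ⟨!![0, 1, 0; 0, 0, 1; 1, 0, 0], by simp [Matrix.det_fin_three]⟩
  have hu2 : u * u = 1 := by
    apply Subtype.ext
    rw [Matrix.SpecialLinearGroup.coe_mul, Matrix.SpecialLinearGroup.coe_one]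
    ext i j; fin_cases i <;> fin_cases j <;> simp [u, Matrix.mul_apply, Fin.sum_univ_three]
  have hvT : v * v.transpose = 1 := by
    apply Subtype.ext
    rw [Matrix.SpecialLinearGroup.coe_mul, Matrix.SpecialLinearGroup.coe_transpose,
      Matrix.SpecialLinearGroup.coe_one]
    ext i j; fin_cases i <;> fin_cases j <;> simp [v, Matrix.mul_apply, Fin.sum_univ_three]
  have hγu : γ u = u := by
    rcases hγ with rfl | rfl
    · rfl
    · rw [AutPSL.invTransSL_apply, inv_eq_of_mul_eq_one_right hu2]
      apply Subtype.ext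
      rw [Matrix.SpecialLinearGroup.coe_transpose]
      ext i j; fin_cases i <;> fin_cases j <;> simp [u]
  have hγv : γ v = v := by
    rcases hγ with rfl | rfl
    · rfl
    · rw [AutPSL.invTransSL_apply, inv_eq_of_mul_eq_one_right hvT, AutPSL.sl_transpose_transpose]
  have hσu : fieldSL σ u = u := by
    apply Subtype.ext
    rw [AutPSL.fieldSL_coe]
    ext i j; fin_cases i <;> fin_cases j <;> simp [u]
  have hσv : fieldSL σ v = v := by
    apply Subtype.ext
    rw [AutPSL.fieldSL_coe]
    ext i j; fin_cases i <;> fin_cases j <;> simp [v]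
  have hdu : conjSL d u = u := by
    apply Subtype.ext
    have h1 : (d : Matrix (Fin 3) (Fin 3) F) * u = (u : Matrix (Fin 3) (Fin 3) F) * d := by
      ext i j; fin_cases i <;> fin_cases j <;> simp [hd, D, u, Matrix.mul_apply, Fin.sum_univ_three]
    rw [AutPSL.conjSL_coe, h1, Units.mul_inv_cancel_right]
  have hdv : conjSL d v = v := by
    apply Subtype.ext
    have h1 : (d : Matrix (Fin 3) (Fin 3) F) * v = (v : Matrix (Fin 3) (Fin 3) F) * d := by
      ext i j; fin_cases i <;> fin_cases j <;> simp [hd, D, v, Matrix.mul_apply, Fin.sum_univ_three]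
    rw [AutPSL.conjSL_coe, h1, Units.mul_inv_cancel_right]
  refine ⟨QuotientGroup.mk u, QuotientGroup.mk v, ?_, ?_, ?_, fun hcc => ?_⟩
  · rw [AutPSL.toPSLAut_mk, MulAut.mul_apply, MulAut.mul_apply, hγu, hσu, hdu]
  · rw [AutPSL.toPSLAut_mk, MulAut.mul_apply, MulAut.mul_apply, hγv, hσv, hdv]
  · refine Nat.Coprime.coprime_dvd_left (orderOf_dvd_of_pow_eq_one (n := 2) ?_)
      (Nat.Coprime.coprime_dvd_right (orderOf_dvd_of_pow_eq_one (n := 3) ?_) (by norm_num))
    · rw [← QuotientGroup.mk_pow, sq, hu2, QuotientGroup.mk_one]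
    · have h : v ^ 3 = 1 := by
        apply Subtype.ext
        rw [Matrix.SpecialLinearGroup.coe_pow]
        simp only [pow_succ, pow_zero, one_mul, Matrix.SpecialLinearGroup.coe_one, v]
        ext i j; fin_cases i <;> fin_cases j <;> simp [Matrix.mul_apply, Fin.sum_univ_three]
      rw [← QuotientGroup.mk_pow, h, QuotientGroup.mk_one]
  · have h : (QuotientGroup.mk (u * v) : Matrix.ProjectiveSpecialLinearGroup (Fin 3) F) =
        QuotientGroup.mk (v * u) := hcc
    rw [QuotientGroup.eq, Matrix.SpecialLinearGroup.mem_center_iff] at h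
    obtain ⟨r, hr, hr'⟩ := h
    have ht : ((v * u : SL(3, F)) : Matrix (Fin 3) (Fin 3) F) =
        ((u * v : SL(3, F)) : Matrix (Fin 3) (Fin 3) F) * Matrix.scalar (Fin 3) r := by
      rw [hr', ← Matrix.SpecialLinearGroup.coe_mul, mul_inv_cancel_left]
    rw [Matrix.SpecialLinearGroup.coe_mul, Matrix.SpecialLinearGroup.coe_mul] at ht
    have h' := congrFun (congrFun ht 0) 0
    simp [u, v, Matrix.mul_apply, Fin.sum_univ_three, Matrix.scalar_apply] at h'

end CfsgLib.CNStructure
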