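import Cfsg.Agent.CITGroups.Basic
import Cfsg.Agent.OddOrder.CN.Basic
import Cfsg.Agent.MinNormal.Factors
import Cfsg.Agent.LocalStructure.Cores
import Cfsg.Agent.PrimeGraph.Lucido
import Cfsg.Agent.PLocal.Cores
import Cfsg.Agent.S0205
import Cfsg.Agent.S1473

/-!
# Nonsolvable groups with nilpotent centralisers

The solvable radical is the largest normal two-subgroup, acted on fixed point freely by the elements
of odd order, and the quotient is almost simple.
-/

set_option autoImplicit false
set_option linter.style.haveILetI false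
set_option linter.unusedSectionVars false

namespace CfsgLib.CNStructure

open Subgroup
open CfsgLib.OddOrder.CN (commute_of_coprime mem_centralizer_of_commute)

variable {G : Type*} [Group G]

/-- A nilpotent-by-solvable group is solvable. -/
theorem isSolvable_of_quotient (N : Subgroup G) [N.Normal] (hN : Group.IsSolvable N)
    (hQ : Group.IsSolvable (G ⧸ N)) : Group.IsSolvable G :=
  Group.isSolvable_of_ker_le_range N.subtype (QuotientGroup.mk' N)
    (hG' := hN) (hG'' := hQ) (by rw [QuotientGroup.ker_mk', range_subtype])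

variable [Finite G]

/-- The centraliser of a nontrivial subgroup is nilpotent. -/
theorem isNilpotent_centralizer (hCN : Cfsg.IsCNGroup G) {Z : Subgroup G} (hZ : Z ≠ ⊥) :
    Group.IsNilpotent (centralizer (Z : Set G)) := by
  obtain ⟨⟨z, hz⟩, hz1⟩ := (Subgroup.ne_bot_iff_exists_ne_one.1 hZ : ∃ z : Z, z ≠ 1)
  refine OddOrder.CN.isNilpotent_of_le (centralizer_le (Set.singleton_subset_iff.2 hz)) (hCN z ?_)
  exact fun e => hz1 (Subtype.ext e)

/-- A nontrivial normal `p`-subgroup meets the centre of a `p`-group containing it. -/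
theorem exists_fixed_of_normal {p : ℕ} [Fact p.Prime] {T S : Subgroup G} (hT : T ≠ ⊥) (hTS : T ≤ S)
    (hn : S ≤ normalizer (T : Set G)) (hS : IsPGroup p S) :
    ∃ x ∈ T, x ≠ 1 ∧ ∀ s ∈ S, Commute s x := by
  haveI : (T.subgroupOf S).Normal := (normal_subgroupOf_iff_le_normalizer hTS).2 hn
  have hne : T.subgroupOf S ≠ ⊥ := fun h => hT (by
    rw [subgroupOf_eq_bot] at h
    exact disjoint_self.1 (h.mono_right hTS))
  letI : MulAction S (T.subgroupOf S) :=
    MulAction.compHom _ (MulAut.conjNormal : S →* MulAut (T.subgroupOf S))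
  have hd : p ∣ Nat.card (T.subgroupOf S) := by
    haveI : Nontrivial (T.subgroupOf S) := (Subgroup.nontrivial_iff_ne_bot _).2 hne
    obtain ⟨n, hn0, hn'⟩ := (hS.to_subgroup (T.subgroupOf S)).nontrivial_iff_card.1 inferInstance
    rw [hn']
    exact dvd_pow_self p (by omega)
  obtain ⟨x, hx, hx1⟩ := hS.exists_fixed_point_of_prime_dvd_card_of_fixed_point _ hd (a := 1)
    (fun s => map_one (MulAut.conjNormal s))
  refine ⟨((x : S) : G), x.2, fun e => hx1 (Subtype.ext (Subtype.ext e)).symm, fun s hs => ?_⟩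
  have h1 : MulAut.conjNormal (⟨s, hs⟩ : S) x = x := hx ⟨s, hs⟩
  have h2 : (s : G) * ((x : S) : G) * s⁻¹ = ((x : S) : G) :=
    congrArg (fun y : T.subgroupOf S => ((y : S) : G)) h1
  exact mul_inv_eq_iff_eq_mul.1 h2

/-- A nonsolvable group with nilpotent centralisers has no nontrivial normal `r`-subgroup, `r` odd. -/
theorem odd_normal_eq_bot (hCN : Cfsg.IsCNGroup G) (hns : ¬ Group.IsSolvable G) {r : ℕ}
    [Fact r.Prime] (hr : r ≠ 2) (P : Subgroup G) [P.Normal] (hP : IsPGroup r P) : P = ⊥ := by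
  classical
  haveI := Fact.mk Nat.prime_two
  by_contra hP1
  haveI : Nontrivial P := (Subgroup.nontrivial_iff_ne_bot P).2 hP1
  haveI := hP.center_nontrivial
  set Z : Subgroup G := (center P).map P.subtype with hZ
  haveI hZn : Z.Normal := PLocal.normal_map_subtype P (center P)
  have hZ1 : Z ≠ ⊥ := by
    rw [hZ, Ne, map_eq_bot_iff_of_injective _ P.subtype_injective]
    exact (Subgroup.nontrivial_iff_ne_bot _).1 inferInstance
  have hZP : ∀ z ∈ Z, ∀ u ∈ P, Commute z u := by
    rintro _ ⟨z, hz, rfl⟩ u hu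
    exact (congrArg Subtype.val (mem_center_iff.1 hz ⟨u, hu⟩)).symm
  set C := centralizer (Z : Set G) with hC
  haveI : C.Normal := normal_centralizer
  have hCs : Group.IsSolvable C := by
    haveI := isNilpotent_centralizer hCN hZ1
    infer_instance
  -- `C` has odd order
  have hT : ∀ T : Subgroup G, T.Normal → IsPGroup 2 T → T = ⊥ := by
    intro T hTn hT2
    by_contra hT1
    haveI := hTn
    -- every two-element centralises `Z`
    have h2 : ∀ e : G, ∀ k : ℕ, orderOf e = 2 ^ k → e ∈ C := by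
      intro e k he
      have hS : IsPGroup 2 ↥(T ⊔ zpowers e) :=
        hT2.to_sup_of_normal_left (IsPGroup.of_card (n := k) (by rw [Nat.card_zpowers, he]))
      obtain ⟨x, hx, hx1, hxc⟩ := exists_fixed_of_normal hT1 le_sup_left le_normalizer_of_normal hS
      rw [hC, mem_centralizer_iff]
      intro z hz
      have hzP : z ∈ P := map_subtype_le _ hz
      refine (commute_of_coprime hCN hx1 ?_ (hxc e (le_sup_right (α := Subgroup G) (mem_zpowers e)))
        ?_).eq
      · exact (commute_of_normal_of_disjoint T P hTn inferInstance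
          (IsPGroup.disjoint_of_ne 2 r (Ne.symm hr) T P hT2 hP) x z hx hzP).symm
      · rw [he]
        exact OddOrder.CN.coprime_orderOf_of_isPGroup hP hzP
          (Nat.Coprime.pow_left k ((Nat.coprime_primes Nat.prime_two Fact.out).2 (Ne.symm hr)))
    refine hns (isSolvable_of_quotient C hCs (Cfsg.Agent.S0205.result ?_))
    refine Nat.not_even_iff_odd.1 fun hev => ?_
    obtain ⟨q, hq⟩ := exists_prime_orderOf_dvd_card' (G := G ⧸ C) 2 (even_iff_two_dvd.1 hev)
    obtain ⟨g, rfl⟩ := QuotientGroup.mk_surjective q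
    obtain ⟨g', -, hg', j, hj⟩ := OddOrder.CN.exists_prime_pow_lift (QuotientGroup.mk' C) g
      Nat.prime_two (k := 1) (by rw [pow_one]; exact hq)
    have h1 : ((g : G) : G ⧸ C) = 1 := hg'.symm.trans ((QuotientGroup.eq_one_iff _).2 (h2 g' j hj))
    rw [h1, orderOf_one] at hq
    omega
  have hCodd : Odd (Nat.card C) := by
    refine Nat.not_even_iff_odd.1 fun hev => ?_
    haveI := isNilpotent_centralizer hCN hZ1
    obtain ⟨S⟩ : Nonempty (Sylow 2 C) := inferInstance
    have htfae : Group.IsNilpotent C ↔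
        ∀ (p : ℕ) (_hp : Fact p.Prime) (P : Sylow p C), (P : Subgroup C).Normal :=
      (Group.isNilpotent_of_finite_tfae (G := C)).out 0 3
    haveI hSn : (S : Subgroup C).Normal := htfae.1 inferInstance 2 inferInstance S
    haveI : (S : Subgroup C).Characteristic := Sylow.characteristic_of_normal S hSn
    have h := hT ((S : Subgroup C).map C.subtype)
      (PLocal.normal_map_subtype C (S : Subgroup C)) (S.2.map _)
    rw [map_eq_bot_iff_of_injective _ C.subtype_injective] at h
    exact S.ne_bot_of_dvd_card (even_iff_two_dvd.1 hev) h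
  have heven : Even (Nat.card G) := by
    by_contra ho
    exact hns (Cfsg.Agent.S0205.result (Nat.not_even_iff_odd.1 ho))
  -- involutions invert `Z`
  have hinv : ∀ t : G, orderOf t = 2 → ∀ x ∈ Z, t * x * t = x⁻¹ := by
    intro t ht
    have htt : t * t = 1 := by rw [← pow_two, ← ht, pow_orderOf_eq_one]
    refine CITGroups.inverts_of_fixedPointFree htt (fun x hx => ?_) fun x hx hc => ?_
    · have := hZn.conj_mem x hx t
      rwa [inv_eq_of_mul_eq_one_right htt] at this
    · by_contra hx1
      have htC : t ∈ C := by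
        rw [hC, mem_centralizer_iff]
        intro z hz
        exact (commute_of_coprime hCN hx1 (hZP z hz x (map_subtype_le _ hx))
          (show Commute t x from hc) (by
            rw [ht]
            exact OddOrder.CN.coprime_orderOf_of_isPGroup hP (map_subtype_le _ hz)
              ((Nat.coprime_primes Nat.prime_two Fact.out).2 (Ne.symm hr)))).eq
      have := Subgroup.orderOf_dvd_natCard C htC
      rw [ht] at this
      exact Nat.not_even_iff_odd.2 hCodd (even_iff_two_dvd.2 this)
  obtain ⟨z, hz⟩ := exists_prime_orderOf_dvd_card' (G := G) 2 (even_iff_two_dvd.1 heven)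
  have hz1 : z * z = 1 := by rw [← pow_two, ← hz, pow_orderOf_eq_one]
  -- every element is congruent modulo `C` to one centralising `z`
  have hgen : ∀ g : G, ∃ m ∈ C, Commute (m * g) z := by
    intro g
    have hw2 : orderOf (g * z * g⁻¹) = 2 := by rw [← hz]; exact (MulAut.conj g).orderOf_eq z
    have hw1 : (g * z * g⁻¹) * (g * z * g⁻¹) = 1 := by rw [← sq, ← hw2, pow_orderOf_eq_one]
    set d := g * z * g⁻¹ * z with hd
    have hdC : d ∈ C := by
      rw [hC, mem_centralizer_iff]
      intro x hx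
      have h1 := hinv z hz x hx
      have h2 := hinv _ hw2 x⁻¹ (Z.inv_mem hx)
      have hzi : z⁻¹ = z := inv_eq_of_mul_eq_one_right hz1
      rw [inv_inv] at h2
      calc x * d = (g * z * g⁻¹) * x⁻¹ * (g * z * g⁻¹) * d := by rw [h2]
        _ = (g * z * g⁻¹) * x⁻¹ * ((g * z * g⁻¹) * (g * z * g⁻¹)) * z := by rw [hd]; group
        _ = (g * z * g⁻¹) * (z * x * z) * z := by rw [hw1, mul_one, h1]
        _ = (g * z * g⁻¹) * z * x * (z * z) := by group
        _ = d * x := by rw [hz1, mul_one]
    have hinvd : z * d * z⁻¹ = d⁻¹ := by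
      rw [hd, inv_eq_of_mul_eq_one_right hz1]
      calc z * (g * z * g⁻¹ * z) * z = z * (g * z * g⁻¹) * (z * z) := by group
        _ = (z * (g * z * g⁻¹)) := by rw [hz1, mul_one]
        _ = (g * z * g⁻¹ * z)⁻¹ := by
          rw [mul_inv_rev, inv_eq_of_mul_eq_one_right hz1, inv_eq_of_mul_eq_one_right hw1]
    obtain ⟨j, hj⟩ : ∃ j : ℕ, d ^ (2 * j) = d := by
      obtain ⟨j, hj⟩ : Odd (orderOf d) := hCodd.of_dvd_nat (Subgroup.orderOf_dvd_natCard _ hdC)
      refine ⟨j + 1, ?_⟩
      rw [show 2 * (j + 1) = orderOf d + 1 by omega, pow_succ, pow_orderOf_eq_one, one_mul]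
    have hinvj : z * d ^ j * z⁻¹ = (d ^ j)⁻¹ := by rw [← conj_pow, hinvd, inv_pow]
    refine ⟨(d ^ j)⁻¹, C.inv_mem (C.pow_mem hdC j), ?_⟩
    show (d ^ j)⁻¹ * g * z = z * ((d ^ j)⁻¹ * g)
    have h1 : g * z = d * z * g := by
      rw [hd]
      calc g * z = g * z * g⁻¹ * g := by group
        _ = g * z * g⁻¹ * (z * z) * g := by rw [hz1, mul_one]
        _ = g * z * g⁻¹ * z * z * g := by group
    calc (d ^ j)⁻¹ * g * z = (d ^ j)⁻¹ * d * z * g := by rw [mul_assoc _ g z, h1]; group
      _ = d ^ j * z * g := by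
        congr 2
        rw [inv_mul_eq_iff_eq_mul, ← pow_add, ← two_mul, hj]
      _ = z * ((d ^ j)⁻¹ * g) := by
        rw [← mul_assoc z]
        congr 1
        calc d ^ j * z = (z * z) * (d ^ j * z⁻¹) := by
              rw [hz1, one_mul, inv_eq_of_mul_eq_one_right hz1]
          _ = z * (z * d ^ j * z⁻¹) := by group
          _ = z * (d ^ j)⁻¹ := by rw [hinvj]
  refine hns (isSolvable_of_quotient C hCs ?_)
  haveI := hCN z fun e => by rw [e, orderOf_one] at hz; omega
  refine Group.isSolvable_of_surjective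
    (f := (QuotientGroup.mk' C).comp (centralizer ({z} : Set G)).subtype) fun q => ?_
  obtain ⟨g, rfl⟩ := QuotientGroup.mk_surjective q
  obtain ⟨m, hm, hc⟩ := hgen g
  refine ⟨⟨m * g, mem_centralizer_singleton_iff.2 hc.eq⟩, ?_⟩
  show ((m * g : G) : G ⧸ C) = g
  rw [QuotientGroup.mk_mul, (QuotientGroup.eq_one_iff m).2 hm, one_mul]

/-- A nontrivial solvable normal subgroup gives a nontrivial normal two-subgroup. -/
theorem eq_bot_of_pCore (hCN : Cfsg.IsCNGroup G) (hns : ¬ Group.IsSolvable G)
    (h2 : Cfsg.pCore 2 G = ⊥) (N : Subgroup G) [N.Normal] (hN : Group.IsSolvable N) : N = ⊥ := by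
  by_contra hN1
  haveI : Nontrivial N := (Subgroup.nontrivial_iff_ne_bot N).2 hN1
  obtain ⟨V, p, hp, hV, hV1, -, hVp⟩ := CfsgLib.PrimeGraph.exists_normal_elementary hN
  haveI := Fact.mk hp
  haveI := hV
  have hVg : IsPGroup p V := fun v => ⟨1, Subtype.ext (by simpa using hVp v.1 v.2)⟩
  haveI := PLocal.normal_map_subtype N (Cfsg.pCore p N)
  have hPg : IsPGroup p ((Cfsg.pCore p N).map N.subtype) := (PLocal.isPGroup_pCore p N).map _
  have hbot : (Cfsg.pCore p N).map N.subtype = ⊥ := by
    by_cases h : p = 2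
    · subst h
      exact le_bot_iff.1 ((LocalStructure.le_pCore hPg).trans h2.le)
    · exact odd_normal_eq_bot hCN hns h _ hPg
  rw [map_eq_bot_iff_of_injective _ N.subtype_injective] at hbot
  exact hV1 (le_bot_iff.1 ((PLocal.le_pCore hVg).trans hbot.le))

/-- The quotient by the largest normal two-subgroup. -/
theorem quotient_data (hCN : Cfsg.IsCNGroup G) (hns : ¬ Group.IsSolvable G) (R : Subgroup G)
    [R.Normal] (hR : R = Cfsg.pCore 2 G) :
    Cfsg.IsCNGroup (G ⧸ R) ∧ ¬ Group.IsSolvable (G ⧸ R) ∧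
      ∀ N : Subgroup (G ⧸ R), N.Normal → Group.IsSolvable N → N = ⊥ := by
  haveI := Fact.mk Nat.prime_two
  have hR2 : IsPGroup 2 R := hR ▸ LocalStructure.pCore_isPGroup
  have hRs : Group.IsSolvable R := by
    haveI := hR2.isNilpotent
    infer_instance
  have hQ := Cfsg.Agent.S1473.result hCN R hRs
  have hQns : ¬ Group.IsSolvable (G ⧸ R) := fun h => hns (isSolvable_of_quotient R hRs h)
  refine ⟨hQ, hQns, fun N hNn hNs => ?_⟩
  haveI := hNn
  refine eq_bot_of_pCore hQ hQns ?_ N hNs
  have hker : IsPGroup 2 (QuotientGroup.mk' R).ker := by rwa [QuotientGroup.ker_mk']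
  haveI : (Cfsg.pCore 2 (G ⧸ R)).Normal := LocalStructure.pCore_normal
  have h2 := LocalStructure.le_pCore
    ((LocalStructure.pCore_isPGroup (p := 2) (G := G ⧸ R)).comap_of_ker_isPGroup _ hker)
  rw [← hR] at h2
  refine (eq_bot_iff_forall _).2 fun q hq => ?_
  obtain ⟨g, rfl⟩ := QuotientGroup.mk_surjective q
  exact (QuotientGroup.eq_one_iff g).2 (h2 (mem_comap.2 hq))

/-- Without solvable normal subgroups the group is almost simple. -/
theorem exists_socle (hCN : Cfsg.IsCNGroup G) [Nontrivial G]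
    (hrad : ∀ N : Subgroup G, N.Normal → Group.IsSolvable N → N = ⊥) :
    ∃ M : Subgroup G, M.Normal ∧ IsSimpleGroup M ∧ ¬ IsMulCommutative M ∧
      centralizer (M : Set G) = ⊥ := by
  obtain ⟨M, hM, -⟩ := MinNormal.exists_isMinNormal_le (⊤ : Subgroup G) top_ne_bot
  haveI := hM.normal
  have hMns : ¬ Group.IsSolvable M := fun h => hM.ne_bot (hrad M hM.normal h)
  have hMnc : ¬ IsMulCommutative M := fun h =>
    hMns (Group.isSolvable_of_comm fun a b => h.is_comm.comm a b)
  obtain ⟨T, hT⟩ := MinNormal.exists_isFactor hM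
  haveI hTsimp := hT.isSimpleGroup hM
  have hTns : ¬ Group.IsSolvable T := fun h =>
    hT.not_commutative hM hMnc ⟨⟨fun a b => IsSimpleGroup.comm_iff_isSolvable.2 h a b⟩⟩
  have hTM : T = M := by
    by_contra hne
    obtain ⟨g, hg⟩ : ∃ g : G, T.map (MulAut.conj g).toMonoidHom ≠ T := by
      by_contra hall
      push Not at hall
      refine hne (le_antisymm hT.le ?_)
      rw [← MinNormal.iSup_factor_eq hM hT]
      exact iSup_le fun g => (hall g).le
    have hU := hT.conj hM g
    have hle : T ≤ centralizer ((T.map (MulAut.conj g).toMonoidHom : Subgroup G) : Set G) :=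
      fun u hu => mem_centralizer_iff.2 fun v hv => (hT.commute hU (Ne.symm hg) hu hv).symm.eq
    haveI := OddOrder.CN.isNilpotent_of_le hle (isNilpotent_centralizer hCN hU.ne_bot)
    exact hTns inferInstance
  refine ⟨M, hM.normal, hTM ▸ hTsimp, hMnc, hrad _ inferInstance ?_⟩
  haveI := isNilpotent_centralizer hCN hM.ne_bot
  infer_instance

/-- Elements of odd order act fixed point freely on a normal two-subgroup. -/
theorem eq_one_of_commute_core (hCN : Cfsg.IsCNGroup G) (hns : ¬ Group.IsSolvable G) {R : Subgroup G}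
    [R.Normal] (hR : R = Cfsg.pCore 2 G) {g x : G} (hg : Odd (orderOf g)) (hg1 : g ≠ 1) (hx : x ∈ R)
    (hc : Commute g x) : x = 1 := by
  haveI := Fact.mk Nat.prime_two
  by_contra hx1
  have hR2 : IsPGroup 2 R := hR ▸ LocalStructure.pCore_isPGroup
  have hR1 : R ≠ ⊥ := fun h => hx1 (mem_bot.1 (h ▸ hx))
  have hgC : g ∈ centralizer (R : Set G) :=
    mem_centralizer_of_commute hCN hR2 hx hx1 (Nat.coprime_two_right.2 hg) hc.symm
  obtain ⟨hQ, hQns, hrad⟩ := quotient_data hCN hns R hR
  haveI := isNilpotent_centralizer hCN hR1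
  haveI : Group.IsSolvable ↥((centralizer (R : Set G)).map (QuotientGroup.mk' R)) :=
    Group.isSolvable_of_surjective ((QuotientGroup.mk' R).subgroupMap_surjective _)
  have h := hrad ((centralizer (R : Set G)).map (QuotientGroup.mk' R))
    (Subgroup.Normal.map normal_centralizer _ (QuotientGroup.mk'_surjective R)) inferInstance
  rw [Subgroup.map_eq_bot_iff, QuotientGroup.ker_mk'] at h
  obtain ⟨k, hk⟩ := IsPGroup.iff_orderOf.1 hR2 ⟨g, h hgC⟩
  rw [Subgroup.orderOf_mk] at hk
  exact hg1 (CITGroups.eq_one_of_odd_two_pow hk hg)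

end CfsgLib.CNStructure
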