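import Cfsg.Agent.CNStructure.Basic
import Cfsg.Agent.CNStructure.AlmostOdd

/-!
# The socles that cannot act on a two-group with all elements of odd order fixed point free
-/

set_option autoImplicit false
set_option linter.style.haveILetI false
set_option linter.unusedSectionVars false

namespace CfsgLib.CNStructure

open Subgroup Matrix
open scoped MatrixGroups

/-- An action on a nonzero group of exponent two with the elements of odd order fixed point free. -/
structure OddFpf {K V : Type*} [Group K] [AddCommGroup V] (ρ : K →* AddMonoid.End V) : Prop where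
  nontrivial : Nontrivial V
  two : ∀ v : V, v + v = 0
  fpf : ∀ (k : K) (v : V), Odd (orderOf k) → k ≠ 1 → ρ k v = v → v = 0

namespace OddFpf

variable {K V : Type*} [Group K] [AddCommGroup V] {ρ : K →* AddMonoid.End V} (H : OddFpf ρ)
include H

theorem comp {L : Type*} [Group L] (f : L →* K) (hf : Function.Injective f) : OddFpf (ρ.comp f) :=
  ⟨H.nontrivial, H.two, fun k v ho h1 h => H.fpf (f k) v (by rwa [orderOf_injective f hf])
    (fun e => h1 (hf (e.trans (map_one f).symm))) h⟩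

theorem end_two (x : AddMonoid.End V) : x + x = 0 := AddMonoidHom.ext fun v => H.two (x v)

theorem end_one_ne_zero : (1 : AddMonoid.End V) ≠ 0 := by
  intro h
  obtain ⟨v, w, hvw⟩ := H.nontrivial
  exact hvw ((DFunLike.congr_fun h v).trans (DFunLike.congr_fun h w).symm)

/-- The norm of an element of order three is zero. -/
theorem norm_three {a : K} (ha : a ^ 3 = 1) (ha1 : a ≠ 1) : 1 + ρ a + ρ (a ^ 2) = 0 := by
  refine AddMonoidHom.ext fun v => ?_
  haveI := Fact.mk Nat.prime_three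
  refine H.fpf a _ (by rw [orderOf_eq_prime ha ha1]; decide) ha1 ?_
  show ρ a (v + ρ a v + ρ (a ^ 2) v) = v + ρ a v + ρ (a ^ 2) v
  have h1 : ρ a (ρ a v) = ρ (a ^ 2) v := by rw [pow_two, map_mul]; rfl
  have h2 : ρ a (ρ (a ^ 2) v) = v := by
    have : ρ a * ρ (a ^ 2) = 1 := by rw [← map_mul, ← pow_succ', ha, map_one]
    exact DFunLike.congr_fun this v
  rw [map_add, map_add, h1, h2]
  abel

/-- No elementary abelian subgroup of order nine. -/
theorem false_of_nine {a b : K} (hc : Commute a b) (ha : a ^ 3 = 1) (hb : b ^ 3 = 1) (ha1 : a ≠ 1)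
    (hb1 : b ≠ 1) (hab : a * b ≠ 1) (hab2 : a * b ^ 2 ≠ 1) : False := by
  have n1 := H.norm_three ha ha1
  have n2 := H.norm_three hb hb1
  have n3 := H.norm_three (by rw [hc.mul_pow, ha, hb, one_mul]) hab
  have n4 := H.norm_three (a := a * b ^ 2) (by
    rw [(hc.pow_right 2).mul_pow, ← pow_mul, show (2 * 3 : ℕ) = 3 * 2 from rfl, pow_mul, ha, hb, one_pow,
      one_mul]) hab2
  have hprod : (1 + ρ a + ρ (a ^ 2)) * (1 + ρ b + ρ (b ^ 2)) = 0 := by rw [n1, zero_mul]
  have h3 : (a * b) ^ 2 = a ^ 2 * b ^ 2 := hc.mul_pow 2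
  have h4 : (a * b ^ 2) ^ 2 = a ^ 2 * b := by
    rw [(hc.pow_right 2).mul_pow, ← pow_mul, show b ^ (2 * 2) = b by rw [pow_succ, hb, one_mul]]
  rw [h3] at n3
  rw [h4] at n4
  simp only [add_mul, mul_add, one_mul, mul_one, ← map_mul] at hprod
  apply H.end_one_ne_zero
  have hsum : (1 + ρ a + ρ (a ^ 2)) + (1 + ρ b + ρ (b ^ 2)) + (1 + ρ (a * b) + ρ (a ^ 2 * b ^ 2)) +
      (1 + ρ (a * b ^ 2) + ρ (a ^ 2 * b)) = 0 := by rw [n1, n2, n3, n4]; simp
  have h3one : (1 : AddMonoid.End V) + 1 + 1 = 0 := by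
    have := sub_eq_zero.2 (hsum.trans hprod.symm)
    rw [← this]
    abel
  rwa [H.end_two, zero_add] at h3one

end OddFpf

/-- Whatever commutes with `a + a⁻¹` commutes with all `aⁿ + a⁻ⁿ`. -/
theorem commute_pow_add {R : Type*} [Ring R] {x : R} {a : Rˣ}
    (h : Commute x ((a : R) + ↑(a⁻¹))) : ∀ n : ℕ, Commute x (((a ^ n : Rˣ) : R) + ↑((a⁻¹) ^ n)) := by
  intro n
  induction n using Nat.strong_induction_on with
  | _ n ih =>
    match n with
    | 0 => simp
    | 1 => simpa using h
    | (k + 2) =>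
      have e : ((a ^ (k + 2) : Rˣ) : R) + ↑((a⁻¹) ^ (k + 2)) =
          ((a : R) + ↑(a⁻¹)) * (((a ^ (k + 1) : Rˣ) : R) + ↑((a⁻¹) ^ (k + 1))) -
            (((a ^ k : Rˣ) : R) + ↑((a⁻¹) ^ k)) := by
        simp only [pow_succ', Units.val_mul, add_mul, mul_add, Units.inv_mul_cancel_left,
          Units.mul_inv_cancel_left]
        abel
      rw [e]
      exact (h.mul_right (ih (k + 1) (by omega))).sub_right (ih k (by omega))

namespace OddFpf

variable {V : Type*} [AddCommGroup V]

/-- `PSL₂` over a prime field of order at least seven. -/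
theorem false_of_psl_two_prime {F : Type*} [Field F] [Fintype F] {p : ℕ} [Fact p.Prime] [CharP F p]
    (hF : Fintype.card F = p) (h7 : 7 ≤ p)
    {ρ : Matrix.ProjectiveSpecialLinearGroup (Fin 2) F →* AddMonoid.End V} (H : OddFpf ρ) :
    False := by
  classical
  obtain ⟨μ, hμ⟩ : ∃ μ : Fˣ, μ ^ 8 ≠ 1 := by
    by_contra hall
    push Not at hall
    have h := (FiniteField.forall_pow_eq_one_iff F 8).1 hall
    rw [hF] at h
    have := Nat.le_of_dvd (by norm_num) h
    have := (Fact.out : p.Prime)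
    have : p ≤ 9 := by omega
    interval_cases p <;> norm_num at *
  let U : F → SL(2, F) := fun t => ⟨!![1, t; 0, 1], by simp [Matrix.det_fin_two_of]⟩
  let W : SL(2, F) := ⟨!![0, 1; -1, 0], by simp [Matrix.det_fin_two_of]⟩
  let D : Fˣ → SL(2, F) := fun s => ⟨!![(s : F), 0; 0, ((s⁻¹ : Fˣ) : F)], by
    simp [Matrix.det_fin_two_of]⟩
  have hUU : ∀ s t, U s * U t = U (s + t) := fun s t => by
    apply Subtype.ext
    rw [Matrix.SpecialLinearGroup.coe_mul]
    ext i j; fin_cases i <;> fin_cases j <;> simp [U, Matrix.mul_apply, Fin.sum_univ_two, add_comm]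
  set π := QuotientGroup.mk' (Subgroup.center SL(2, F)) with hπ
  set u := π (U 1) with hu
  set w := π W with hw
  set h := π (D μ) with hh
  have hUn : ∀ n : ℕ, U 1 ^ n = U n := by
    intro n
    induction n with
    | zero =>
      rw [pow_zero]
      apply Subtype.ext
      ext i j; fin_cases i <;> fin_cases j <;> simp [U]
    | succ n ih => rw [pow_succ, ih, hUU, Nat.cast_succ]
  have hDU : ∀ (s : Fˣ) (t : F), D s * U t * (D s)⁻¹ = U ((s : F) * s * t) := fun s t => by
    rw [mul_inv_eq_iff_eq_mul]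
    apply Subtype.ext
    rw [Matrix.SpecialLinearGroup.coe_mul, Matrix.SpecialLinearGroup.coe_mul]
    ext i j; fin_cases i <;> fin_cases j <;> simp [U, D, Matrix.mul_apply, Fin.sum_univ_two]
    field_simp
  have hwh : w * h⁻¹ = h * w := by
    rw [hw, hh, ← map_inv, ← map_mul, ← map_mul]
    congr 1
    rw [mul_inv_eq_iff_eq_mul]
    apply Subtype.ext
    simp only [Matrix.SpecialLinearGroup.coe_mul]
    ext i j; fin_cases i <;> fin_cases j <;> simp [W, D, Matrix.mul_apply, Fin.sum_univ_two]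
  have hwu : (w * u) ^ 3 = 1 := by
    rw [hw, hu, ← map_mul, ← map_pow]
    have : (W * U 1) ^ 3 = 1 := by
      apply Subtype.ext
      simp only [pow_succ, pow_zero, one_mul, Matrix.SpecialLinearGroup.coe_mul,
        Matrix.SpecialLinearGroup.coe_one]
      ext i j; fin_cases i <;> fin_cases j <;> simp [W, U, Matrix.mul_apply, Fin.sum_univ_two]
    rw [this, map_one]
  have hw2 : w * w = 1 := by
    rw [hw, ← map_mul, hπ, QuotientGroup.mk'_apply, QuotientGroup.eq_one_iff,
      Matrix.SpecialLinearGroup.mem_center_iff]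
    refine ⟨-1, by simp, ?_⟩
    rw [Matrix.SpecialLinearGroup.coe_mul]
    ext i j; fin_cases i <;> fin_cases j <;> simp [W, Matrix.mul_apply, Fin.sum_univ_two, Matrix.scalar_apply]
  have hwu1 : w * u ≠ 1 := by
    rw [hw, hu, ← map_mul]
    intro e
    rcases eq_or_neg_of_mk (s := 1) (t := W * U 1) (by
      rw [QuotientGroup.mk_one]; exact e.symm) with h' | h' <;>
    · rw [Matrix.SpecialLinearGroup.coe_mul, Matrix.SpecialLinearGroup.coe_one] at h'
      have h'' := congrFun (congrFun h' 1) 0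
      simp [W, U, Matrix.mul_apply, Fin.sum_univ_two] at h''
  have hord : ∀ n : ℕ, ¬ p ∣ n → u ^ n ≠ 1 := by
    intro n hn e
    rw [hu, ← map_pow, hUn] at e
    rcases eq_or_neg_of_mk (s := 1) (t := U n) (by rw [QuotientGroup.mk_one]; exact e.symm) with h' | h' <;>
    · have h'' := congrFun (congrFun h' 0) 1
      simp [U] at h''
      exact hn ((CharP.cast_eq_zero_iff F p n).1 h'')
  have hup : u ^ p = 1 := by
    rw [hu, ← map_pow, hUn, CharP.cast_eq_zero]
    convert map_one π
    apply Subtype.ext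
    ext i j; fin_cases i <;> fin_cases j <;> simp [U]
  clear_value u w h
  set ρ' := ρ.toHomUnits with hρ'
  have hval : ∀ g, (ρ' g : AddMonoid.End V) = ρ g := fun g => rfl
  -- the relation of an element of order three
  have hE : ∀ a b : Matrix.ProjectiveSpecialLinearGroup (Fin 2) F, a * a = 1 → (a * b) ^ 3 = 1 →
      a * b ≠ 1 → Commute (ρ a) (ρ b + ρ b⁻¹) := by
    intro a b haa hab hab1
    have hinv : (a * b) ^ 2 = b⁻¹ * a := by
      rw [← inv_eq_of_mul_eq_one_left (by rw [← pow_succ]; exact hab : (a * b) ^ 2 * (a * b) = 1),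
        _root_.mul_inv_rev, inv_eq_of_mul_eq_one_right haa]
    have h1 : (1 : AddMonoid.End V) + ρ a * ρ b + ρ b⁻¹ * ρ a = 0 := by
      rw [← map_mul, ← map_mul, ← hinv]
      exact H.norm_three hab hab1
    have h2 : (1 : AddMonoid.End V) + ρ b * ρ a + ρ a * ρ b⁻¹ = 0 := by
      have := congrArg (fun x => ρ b * x * ρ b⁻¹) h1
      simp only [mul_add, add_mul, mul_zero, zero_mul, mul_one, mul_assoc, ← map_mul,
        mul_inv_cancel, map_one] at this
      rw [← this]
      simp only [← map_mul, mul_inv_cancel_left, mul_inv_cancel_right, mul_assoc,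
        mul_inv_cancel, mul_one]
    have h3 : ρ a * (ρ b + ρ b⁻¹) + (ρ b + ρ b⁻¹) * ρ a = 0 := by
      have h4 := congrArg₂ (· + ·) h1 h2
      simp only [add_zero] at h4
      have h11 := H.end_two 1
      calc ρ a * (ρ b + ρ b⁻¹) + (ρ b + ρ b⁻¹) * ρ a
          = ((1 : AddMonoid.End V) + ρ a * ρ b + ρ b⁻¹ * ρ a) +
              ((1 : AddMonoid.End V) + ρ b * ρ a + ρ a * ρ b⁻¹) - (1 + 1) := by
            simp only [mul_add, add_mul]; abel
        _ = 0 := by rw [h4, h11, sub_zero]
    calc ρ a * (ρ b + ρ b⁻¹) = ρ a * (ρ b + ρ b⁻¹) + ((ρ b + ρ b⁻¹) * ρ a + (ρ b + ρ b⁻¹) * ρ a) := by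
          rw [H.end_two, add_zero]
      _ = (ρ b + ρ b⁻¹) * ρ a := by rw [← add_assoc, h3, zero_add]
  -- commuting with every `uⁿ + u⁻ⁿ`
  have hall : ∀ a, Commute (ρ a) (ρ u + ρ u⁻¹) → ∀ n : ℕ, Commute (ρ a) (ρ (u ^ n) + ρ (u ^ n)⁻¹) := by
    intro a ha n
    have := commute_pow_add (x := ρ a) (a := ρ' u) (by rw [← map_inv]; exact ha) n
    rw [← map_pow, ← map_inv, ← map_pow, inv_pow] at this
    exact this
  clear hρ'
  set s := ((μ : F) * μ) with hs
  obtain ⟨k, hk⟩ : ∃ k : ℕ, (k : F) = s := by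
    have hinj : Function.Injective (ZMod.castHom dvd_rfl F : ZMod p →+* F) := RingHom.injective _
    obtain ⟨y, hy⟩ := ((Fintype.bijective_iff_injective_and_card _).2 ⟨hinj, by rw [ZMod.card, hF]⟩).2 s
    exact ⟨y.val, by rw [← hy, ← map_natCast (ZMod.castHom dvd_rfl F), ZMod.natCast_zmod_val]⟩
  have hconj : h * u * h⁻¹ = u ^ k := by
    rw [hh, hu, ← map_inv, ← map_mul, ← map_mul, hDU, mul_one, ← map_pow, hUn, hk]
  have hk0 : s ≠ 0 := mul_ne_zero μ.ne_zero μ.ne_zero
  obtain ⟨l, hl⟩ : ∃ l : ℕ, (k * l : ℕ) ≡ 1 [MOD p] := by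
    have hnd : ¬ p ∣ k := fun hd => hk0 (hk ▸ (CharP.cast_eq_zero_iff F p k).2 hd)
    obtain ⟨l, -, hl⟩ := Nat.exists_mul_mod_eq_one_of_coprime
      ((Fact.out : p.Prime).coprime_iff_not_dvd.2 hnd).symm (Fact.out : p.Prime).one_lt
    exact ⟨l, by rw [Nat.ModEq, hl, Nat.one_mod_eq_one.2 (Fact.out : p.Prime).ne_one]⟩
  have hw' := hE w u hw2 hwu hwu1
  -- the conjugate relation
  have hw'' := hE (h * w * h⁻¹) (h * u * h⁻¹) (by rw [conj_mul, hw2, mul_one, mul_inv_cancel])
    (by rw [conj_mul, conj_pow, hwu, mul_one, mul_inv_cancel])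
    (fun e => hwu1 (conj_eq_one_iff.1 (by rwa [conj_mul] at e)))
  rw [hconj] at hw''
  have hw₁ : Commute (ρ (h * w * h⁻¹)) (ρ u + ρ u⁻¹) := by
    have := commute_pow_add (x := ρ (h * w * h⁻¹)) (a := ρ' (u ^ k)) (by rw [← map_inv]; exact hw'') l
    rw [← map_pow, ← map_inv, ← map_pow, ← pow_mul, inv_pow, ← pow_mul,
      pow_eq_pow_mod _ hup] at this
    rw [show (k * l) % p = 1 from Eq.trans hl (Nat.one_mod_eq_one.2 (Fact.out : p.Prime).ne_one), pow_one]
      at this
    exact this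
  have hh2 : Commute (ρ (h * h)) (ρ u + ρ u⁻¹) := by
    have e : h * h = (h * w * h⁻¹) * w := by
      calc h * h = h * h * (w * w) := by rw [hw2, mul_one]
        _ = h * (h * w) * w := by group
        _ = h * (w * h⁻¹) * w := by rw [hwh]
        _ = _ := by group
    rw [e, map_mul]
    exact hw₁.mul_left hw'
  have hconj2 : (h * h) * u * (h * h)⁻¹ = u ^ (k * k) := by
    rw [show (h * h) * u * (h * h)⁻¹ = h * (h * u * h⁻¹) * h⁻¹ by group, hconj, ← conj_pow, hconj,
      ← pow_mul]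
  have heq : ρ (u ^ (k * k)) + ρ (u ^ (k * k))⁻¹ = ρ u + ρ u⁻¹ := by
    have h' := congrArg (fun x => x * ρ (h * h)⁻¹) hh2.eq
    simp only [mul_add, add_mul, ← map_mul, mul_assoc, mul_inv_cancel, mul_one] at h'
    rw [← hconj2, _root_.mul_inv_rev, _root_.mul_inv_rev, _root_.mul_inv_rev, inv_inv]
    simpa [mul_assoc] using h'
  -- conclude
  set t := k * k with ht
  obtain ⟨t', ht'⟩ : ∃ t', t = t' + 1 := ⟨t - 1, by
    have : t ≠ 0 := by
      intro e
      have : ((t : ℕ) : F) = 0 := by rw [e, Nat.cast_zero]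
      rw [ht, Nat.cast_mul, hk] at this
      exact mul_ne_zero hk0 hk0 this
    omega⟩
  have hprod : (ρ (u ^ (t + 1)) + 1) * (ρ (u ^ t') + 1) = 0 := by
    have h' := congrArg (fun x => ρ (u ^ t) * x) heq
    simp only [mul_add, ← map_mul, mul_inv_cancel, map_one, ← pow_add, ← pow_succ] at h'
    rw [show u ^ t * u⁻¹ = u ^ t' by rw [ht', pow_succ, mul_inv_cancel_right]] at h'
    rw [add_mul, mul_add, mul_add, ← map_mul, ← pow_add, show t + 1 + t' = t + t by omega, mul_one,
      mul_one, one_mul]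
    calc ρ (u ^ (t + t)) + ρ (u ^ (t + 1)) + (ρ (u ^ t') + 1)
        = (ρ (u ^ (t + t)) + 1) + (ρ (u ^ (t + 1)) + ρ (u ^ t')) := by abel
      _ = 0 := by rw [h', H.end_two]
  have hinj : ∀ n : ℕ, ¬ p ∣ n → ∀ v : V, (ρ (u ^ n) + 1 : AddMonoid.End V) v = 0 → v = 0 := by
    intro n hn v hv
    refine H.fpf (u ^ n) v ?_ (hord n hn) ?_
    · rw [orderOf_eq_prime (by rw [← pow_mul, mul_comm, pow_mul, hup, one_pow]) (hord n hn)]
      exact (Fact.out : p.Prime).odd_of_ne_two (by omega)
    · have hv' : ρ (u ^ n) v + v = 0 := hv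
      rw [eq_neg_of_add_eq_zero_left hv', neg_eq_iff_add_eq_zero, H.two]
  have hμ4 : ∀ n : ℕ, p ∣ n → (n : F) = 0 := fun n hn => (CharP.cast_eq_zero_iff F p n).2 hn
  obtain ⟨v, hv⟩ := @exists_ne V H.nontrivial 0
  refine hv (hinj t' ?_ v (hinj (t + 1) ?_ _ (DFunLike.congr_fun hprod v)))
  · intro hd
    apply hμ
    have h1 := hμ4 _ hd
    have h2 : ((t : ℕ) : F) = 1 := by rw [ht', Nat.cast_succ, h1, zero_add]
    rw [ht, Nat.cast_mul, hk] at h2
    ext
    push_cast
    linear_combination ((μ : F) ^ 4 + 1) * h2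
  · intro hd
    apply hμ
    have h1 := hμ4 _ hd
    rw [Nat.cast_succ, ht, Nat.cast_mul, hk] at h1
    ext
    push_cast
    linear_combination ((μ : F) ^ 4 - 1) * h1

/-- `PSL₂` over nine elements. -/
theorem false_of_psl_two_nine {F : Type*} [Field F] [Fintype F] (hF : Fintype.card F = 9)
    {ρ : Matrix.ProjectiveSpecialLinearGroup (Fin 2) F →* AddMonoid.End V} (H : OddFpf ρ) :
    False := by
  classical
  haveI := Fact.mk Nat.prime_three
  haveI : CharP F 3 := charP_of_card_eq_prime_pow (show Fintype.card F = 3 ^ 2 by rw [hF]; rfl)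
  let U : F → SL(2, F) := fun t => ⟨!![1, t; 0, 1], by simp [Matrix.det_fin_two_of]⟩
  have hUU : ∀ s t, U s * U t = U (s + t) := fun s t => by
    apply Subtype.ext
    rw [Matrix.SpecialLinearGroup.coe_mul]
    ext i j; fin_cases i <;> fin_cases j <;> simp [U, Matrix.mul_apply, Fin.sum_univ_two, add_comm]
  set π := QuotientGroup.mk' (Subgroup.center SL(2, F)) with hπ
  have hne : ∀ t, t ≠ 0 → π (U t) ≠ 1 := by
    intro t ht e
    rcases eq_or_neg_of_mk (s := 1) (t := U t) (by rw [QuotientGroup.mk_one]; exact e.symm) with h' | h' <;>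
    · have h'' := congrFun (congrFun h' 0) 1
      simp [U] at h''
      exact ht h''
  have h3 : ∀ t, π (U t) ^ 3 = 1 := by
    intro t
    have h30 : t + t + t = 0 := by
      have : (3 : F) = 0 := by exact_mod_cast CharP.cast_eq_zero F 3
      linear_combination t * this
    rw [← map_pow, pow_succ, pow_two, hUU, hUU, h30]
    convert map_one π
    apply Subtype.ext
    ext i j; fin_cases i <;> fin_cases j <;> simp [U]
  obtain ⟨b, hb⟩ : ∃ b : F, b ∉ ({0, 1, -1} : Finset F) := by
    obtain ⟨b, -, hb⟩ := Finset.exists_mem_notMem_of_card_lt_card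
      (s := ({0, 1, -1} : Finset F)) (t := Finset.univ)
      (lt_of_le_of_lt Finset.card_le_three (by rw [Finset.card_univ, hF]; norm_num))
    exact ⟨b, hb⟩
  simp only [Finset.mem_insert, Finset.mem_singleton, not_or] at hb
  obtain ⟨hb0, hb1, hb2⟩ := hb
  refine H.false_of_nine (a := π (U 1)) (b := π (U b)) ?_ (h3 1) (h3 b) (hne 1 one_ne_zero) (hne b hb0)
    ?_ ?_
  · show π (U 1) * π (U b) = π (U b) * π (U 1)
    rw [← map_mul, ← map_mul, hUU, hUU, add_comm]
  · rw [← map_mul, hUU]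
    exact hne _ fun e => hb2 (eq_neg_of_add_eq_zero_right e)
  · rw [pow_two, ← map_mul, ← map_mul, hUU, hUU]
    refine hne _ fun e => hb1 ?_
    have : (3 : F) = 0 := by exact_mod_cast CharP.cast_eq_zero F 3
    linear_combination b * this - e

/-- `PSL₃` over four elements. -/
theorem false_of_psl_three_four {F : Type*} [Field F] [Fintype F] (hF : Fintype.card F = 4)
    {ρ : Matrix.ProjectiveSpecialLinearGroup (Fin 3) F →* AddMonoid.End V} (H : OddFpf ρ) :
    False := by
  classical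
  haveI := Fact.mk Nat.prime_two
  haveI : CharP F 2 := charP_of_card_eq_prime_pow (show Fintype.card F = 2 ^ 2 by rw [hF]; rfl)
  obtain ⟨e, -, he⟩ := Finset.exists_mem_notMem_of_card_lt_card
    (s := ({0, 1} : Finset F)) (t := Finset.univ)
    (lt_of_le_of_lt Finset.card_le_two (by rw [Finset.card_univ, hF]; norm_num))
  simp only [Finset.mem_insert, Finset.mem_singleton, not_or] at he
  obtain ⟨he0, he1⟩ := he
  have he3 : e ^ 3 = 1 := by
    have := FiniteField.pow_card_sub_one_eq_one e he0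
    rwa [hF] at this
  let D : SL(3, F) := ⟨!![1, 0, 0; 0, e, 0; 0, 0, e ^ 2], by
    simp [Matrix.det_fin_three]; linear_combination he3⟩
  let P : SL(3, F) := ⟨!![0, 1, 0; 0, 0, 1; 1, 0, 0], by simp [Matrix.det_fin_three]⟩
  set π := QuotientGroup.mk' (Subgroup.center SL(3, F)) with hπ
  have hne : ∀ (S : SL(3, F)) (i j : Fin 3), i ≠ j → (S : Matrix (Fin 3) (Fin 3) F) i j ≠ 0 → π S ≠ 1 := by
    intro S i j hij hS h1
    rw [hπ, QuotientGroup.mk'_apply, QuotientGroup.eq_one_iff,
      Matrix.SpecialLinearGroup.mem_center_iff] at h1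
    obtain ⟨r, -, hr⟩ := h1
    exact hS (by rw [← hr]; simp [Matrix.scalar_apply, hij])
  have hD3 : π D ^ 3 = 1 := by
    rw [← map_pow]
    convert map_one π
    apply Subtype.ext
    simp only [pow_succ, pow_zero, one_mul, Matrix.SpecialLinearGroup.coe_mul,
      Matrix.SpecialLinearGroup.coe_one]
    ext i j; fin_cases i <;> fin_cases j <;> simp [D, Matrix.mul_apply, Fin.sum_univ_three] <;>
      (first | linear_combination he3 | linear_combination (e ^ 3 + 1) * he3)
  have hP3 : π P ^ 3 = 1 := by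
    rw [← map_pow]
    convert map_one π
    apply Subtype.ext
    simp only [pow_succ, pow_zero, one_mul, Matrix.SpecialLinearGroup.coe_mul,
      Matrix.SpecialLinearGroup.coe_one]
    ext i j; fin_cases i <;> fin_cases j <;> simp [P, Matrix.mul_apply, Fin.sum_univ_three]
  refine H.false_of_nine (a := π D) (b := π P) ?_ hD3 hP3 ?_ (hne P 0 1 (by decide) (by simp [P]))
    ?_ ?_
  · show π D * π P = π P * π D
    rw [← map_mul, ← map_mul, hπ, QuotientGroup.mk'_apply, QuotientGroup.mk'_apply, QuotientGroup.eq,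
      Matrix.SpecialLinearGroup.mem_center_iff]
    refine ⟨e, by rw [Fintype.card_fin]; exact he3, ?_⟩
    have key : (((D * P : SL(3, F))) : Matrix (Fin 3) (Fin 3) F) * Matrix.scalar (Fin 3) e =
        ((P * D : SL(3, F)) : Matrix (Fin 3) (Fin 3) F) := by
      rw [Matrix.SpecialLinearGroup.coe_mul, Matrix.SpecialLinearGroup.coe_mul]
      ext i j; fin_cases i <;> fin_cases j <;>
        simp [D, P, Matrix.mul_apply, Fin.sum_univ_three, Matrix.scalar_apply] <;>
        (first | linear_combination he3 | ring)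
    have h1 := congrArg (fun X => (((D * P)⁻¹ : SL(3, F)) : Matrix (Fin 3) (Fin 3) F) * X) key
    simp only [← Matrix.mul_assoc, ← Matrix.SpecialLinearGroup.coe_mul, inv_mul_cancel,
      Matrix.SpecialLinearGroup.coe_one, Matrix.one_mul] at h1
    exact h1
  · rw [hπ, QuotientGroup.mk'_apply, Ne, QuotientGroup.eq_one_iff,
      Matrix.SpecialLinearGroup.mem_center_iff]
    rintro ⟨r, -, hr⟩
    have h00 := congrFun (congrFun hr 0) 0
    have h11 := congrFun (congrFun hr 1) 1
    simp [D, Matrix.scalar_apply] at h00 h11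
    exact he1 (h11.symm.trans h00)
  · rw [← map_mul]
    refine hne _ 0 1 (by decide) ?_
    rw [Matrix.SpecialLinearGroup.coe_mul]
    simp [D, P, Matrix.mul_apply, Fin.sum_univ_three]
  · rw [pow_two, ← map_mul, ← map_mul]
    refine hne _ 0 2 (by decide) ?_
    rw [Matrix.SpecialLinearGroup.coe_mul, Matrix.SpecialLinearGroup.coe_mul]
    simp [D, P, Matrix.mul_apply, Fin.sum_univ_three]

end OddFpf

end CfsgLib.CNStructure
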