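import Cfsg.Agent.CNStructure.Socle
import Cfsg.Agent.CNStructure.Exclude
import Cfsg.Agent.CNStructure.Almost
import Cfsg.Agent.SuzukiModule.Group
import Cfsg.Agent.HigmanSL2.Main
import Cfsg.Agent.BlockNear50.Reduce
import Cfsg.Agent.Linear.Basic

/-!
# The structure of nonsolvable groups with nilpotent centralisers
-/

set_option autoImplicit false
set_option linter.style.haveILetI false
set_option linter.unusedSectionVars false

namespace CfsgLib.CNStructure

open Subgroup
open scoped MatrixGroups IsMulCommutative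

variable {G : Type*} [Group G] [Finite G]

/-- A nontrivial two-core gives an elementary action of the socle with odd elements free. -/
theorem exists_oddFpf (hCN : Cfsg.IsCNGroup G) (hns : ¬ Group.IsSolvable G) (R : Subgroup G)
    [R.Normal] (hR : R = Cfsg.pCore 2 G) (hR0 : R ≠ ⊥) (M : Subgroup (G ⧸ R)) :
    ∃ (B : Subgroup G) (_ : IsMulCommutative B) (ρ : M →* AddMonoid.End (Additive B)), OddFpf ρ := by
  have hR2 : IsPGroup 2 R := by
    haveI : Fact (Nat.Prime 2) := ⟨Nat.prime_two⟩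
    exact hR ▸ LocalStructure.pCore_isPGroup
  obtain ⟨B, hBn, hB0, hBR, hBc, hB2⟩ := SuzukiModule.exists_central_normal hR2 hR0
  have hker : (QuotientGroup.mk' R).ker = R := QuotientGroup.ker_mk' R
  haveI : IsMulCommutative B := ⟨⟨fun a b => Subtype.ext (hBc a a.2 b (hBR b.2)).eq⟩⟩
  letI : Module (ZMod 2) (Additive B) := AddCommGroup.zmodModule fun a =>
    Subtype.ext (by
      have := hB2 _ (Additive.toMul a).2
      rwa [← pow_two] at this)
  obtain ⟨σ, hσ, -⟩ := SuzukiModule.exists_rep (QuotientGroup.mk' R) (QuotientGroup.mk'_surjective R)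
    (fun x ho h1 r hr hc => eq_one_of_commute_core hCN hns hR ho h1 (hker ▸ hr) hc)
    (A := B) (hker.symm ▸ hBR) (fun b hb r hr => hBc b hb r (hker ▸ hr)) 2
  let f : Module.End (ZMod 2) (Additive B) →* AddMonoid.End (Additive B) :=
    { toFun := fun φ => φ.toAddMonoidHom, map_one' := rfl, map_mul' := fun _ _ => rfl }
  refine ⟨B, inferInstance, (f.comp σ).comp M.subtype, ⟨?_, fun v => ?_, fun k v ho h1 h => ?_⟩⟩
  · exact (Subgroup.nontrivial_iff_ne_bot B).2 hB0
  · exact Additive.toMul.injective (Subtype.ext (hB2 _ (Additive.toMul v).2))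
  · exact hσ (k : G ⧸ R) v (by rwa [orderOf_coe]) (fun e => h1 (Subtype.ext e)) h

/-- The statement. -/
theorem structure_theorem (hCN : Cfsg.IsCNGroup G) (hns : ¬ Group.IsSolvable G) :
    (IsSimpleGroup G ∧ ¬ IsMulCommutative G) ∨
    (∃ (N : Subgroup G), N.Normal ∧ N.index = 2 ∧ ∃ (F : Type) (_ : Field F) (_ : Fintype F),
      Fintype.card F = 9 ∧ Nonempty (N ≃* Matrix.ProjectiveSpecialLinearGroup (Fin 2) F)) ∨
    (∃ (N : Subgroup G) (_ : N.Normal), N ≠ ⊥ ∧ IsPGroup 2 N ∧ IsMulCommutative N ∧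
        (∀ x ∈ N, x * x = 1) ∧
        ((∃ (F : Type) (_ : Field F) (_ : Fintype F), CharP F 2 ∧ 4 ≤ Fintype.card F ∧
            Nonempty (G ⧸ N ≃* Matrix.ProjectiveSpecialLinearGroup (Fin 2) F)) ∨
          Cfsg.IsSuzuki (G ⧸ N))) := by
  classical
  haveI : Fact (Nat.Prime 2) := ⟨Nat.prime_two⟩
  set R := Cfsg.pCore 2 G with hR
  haveI : R.Normal := LocalStructure.pCore_normal
  have hR2 : IsPGroup 2 R := LocalStructure.pCore_isPGroup
  obtain ⟨hQ, hQns, hrad⟩ := quotient_data hCN hns R hR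
  haveI : Nontrivial (G ⧸ R) := by
    rw [← not_subsingleton_iff_nontrivial]
    intro h
    exact hQns (Group.isSolvable_of_comm fun a b => Subsingleton.elim _ _)
  obtain ⟨M, hMn, hMs, hMc, hCM⟩ := exists_socle hQ hrad
  haveI := hMn
  haveI := hMs
  have simpleCase : ∀ (_ : R = ⊥), M = ⊤ → IsSimpleGroup G ∧ ¬ IsMulCommutative G := by
    intro h0 htop
    haveI := htop
    let e : M ≃* G := (MulEquiv.subgroupCongr htop).trans (topEquiv.trans
      ((QuotientGroup.quotientMulEquivOfEq h0).trans QuotientGroup.quotientBot))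
    refine ⟨e.symm.isSimpleGroup, fun h => hMc ⟨⟨fun a b => e.injective ?_⟩⟩⟩
    rw [map_mul, map_mul]
    exact h.is_comm.comm _ _
  cases socleType hMc (isCNGroup_subgroup hQ M) with
  | pslTwoEven F i1 i2 hchar h4 he =>
    obtain ⟨e⟩ := he
    have htop : M = ⊤ := eq_top_of_fixesPair hQ e exists_form_psl_two
    by_cases h0 : R = ⊥
    · exact Or.inl (simpleCase h0 htop)
    let eQ : G ⧸ R ≃* Matrix.ProjectiveSpecialLinearGroup (Fin 2) F :=
      (topEquiv.symm.trans (MulEquiv.subgroupCongr htop.symm)).trans e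
    obtain ⟨n, -, hn⟩ := FiniteField.card F 2
    obtain ⟨eS⟩ := BlockNear50.nonempty_equiv_PSL (F := F) hn
    have h3 : 3 ∣ Nat.card G := by
      refine dvd_trans ?_ (Subgroup.card_quotient_dvd_card R)
      rw [Nat.card_congr (eQ.trans eS.symm).toEquiv, CfsgLib.Linear.card_SL_two, hn,
        show (2 : ℕ) ^ (n : ℕ) = 2 ^ (n : ℕ) from rfl, ← pow_mul]
      refine dvd_mul_of_dvd_right ?_ _
      rw [mul_comm, pow_mul]
      have hd := Nat.sub_dvd_pow_sub_pow (2 ^ 2) 1 (n : ℕ)
      rwa [one_pow] at hd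
    haveI : Fact (Nat.Prime 3) := ⟨Nat.prime_three⟩
    obtain ⟨x, hx⟩ := exists_prime_orderOf_dvd_card' 3 h3
    have hfpf : ∀ q ∈ R, x * q * x⁻¹ = q → q = 1 := fun q hq h =>
      eq_one_of_commute_core hCN hns hR (g := x) (by rw [hx]; decide)
        (fun e => by rw [e, orderOf_one] at hx; omega) hq (mul_inv_eq_iff_eq_mul.1 h)
    obtain ⟨⟨hcomm, hsq⟩, -⟩ := HigmanSL2.higman (eQ.trans eS.symm) hR2
      (by rw [Nat.card_eq_fintype_card]; omega) x hx hfpf
    exact Or.inr (Or.inr ⟨R, inferInstance, h0, hR2, hcomm,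
      fun y hy => by rw [← pow_two]; exact hsq y hy, Or.inl ⟨F, i1, i2, hchar, h4, ⟨eQ⟩⟩⟩)
  | pslTwoNine F i1 i2 h9 he =>
    obtain ⟨e⟩ := he
    haveI : Fact (Nat.Prime 3) := ⟨Nat.prime_three⟩
    haveI : CharP F 3 := charP_of_card_eq_prime_pow (show Fintype.card F = 3 ^ 2 by rw [h9]; rfl)
    by_cases h0 : R = ⊥
    · have hidx := index_le_two_of_three hQ M e
      have hpos : M.index ≠ 0 := index_ne_zero_of_finite
      rcases (show M.index = 1 ∨ M.index = 2 by omega) with h | h
      · exact Or.inl (simpleCase h0 (index_eq_one.1 h))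
      · refine Or.inr (Or.inl ⟨M.comap (QuotientGroup.mk' R), inferInstance, ?_, F, i1, i2, h9, ⟨?_⟩⟩)
        · rw [index_comap_of_surjective _ (QuotientGroup.mk'_surjective R), h]
        · have hinj : Function.Injective (QuotientGroup.mk' R) := by
            rw [← MonoidHom.ker_eq_bot_iff, QuotientGroup.ker_mk', h0]
          exact ((equivMapOfInjective _ _ hinj).trans (MulEquiv.subgroupCongr
            (map_comap_eq_self_of_surjective (QuotientGroup.mk'_surjective R) M))).trans e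
    · obtain ⟨B, _, ρ, H⟩ := exists_oddFpf hCN hns R hR h0 M
      exact (OddFpf.false_of_psl_two_nine h9 (H.comp e.symm.toMonoidHom e.symm.injective)).elim
  | pslTwoPrime F i1 i2 p hp hF h7 h12 he =>
    obtain ⟨e⟩ := he
    haveI : Fact p.Prime := ⟨hp⟩
    haveI : CharP F p := charP_of_card_eq_prime hF
    have htop : M = ⊤ := eq_top_of_fixesPair hQ e (exists_form_psl_two_prime hF h7 h12)
    by_cases h0 : R = ⊥
    · exact Or.inl (simpleCase h0 htop)
    · obtain ⟨B, _, ρ, H⟩ := exists_oddFpf hCN hns R hR h0 M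
      exact (OddFpf.false_of_psl_two_prime hF h7 (H.comp e.symm.toMonoidHom e.symm.injective)).elim
  | pslThree F i1 i2 hF he =>
    obtain ⟨e⟩ := he
    have htop : M = ⊤ := eq_top_of_fixesPair hQ e (exists_form_psl_three hF)
    by_cases h0 : R = ⊥
    · exact Or.inl (simpleCase h0 htop)
    · obtain ⟨B, _, ρ, H⟩ := exists_oddFpf hCN hns R hR h0 M
      exact (OddFpf.false_of_psl_three_four hF (H.comp e.symm.toMonoidHom e.symm.injective)).elim
  | suzuki F i1 i2 m hS he =>
    obtain ⟨e⟩ := he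
    have htop : M = ⊤ := eq_top_of_fixesPair hQ e (exists_form_suzuki hS)
    by_cases h0 : R = ⊥
    · exact Or.inl (simpleCase h0 htop)
    let eQ : G ⧸ R ≃* Cfsg.Sz F m :=
      (topEquiv.symm.trans (MulEquiv.subgroupCongr htop.symm)).trans e
    let π : G →* Cfsg.Sz F m := eQ.toMonoidHom.comp (QuotientGroup.mk' R)
    have hker : π.ker = R := by
      ext x
      simp only [π, MonoidHom.mem_ker, MonoidHom.comp_apply, MulEquiv.coe_toMonoidHom,
        MulEquiv.map_eq_one_iff, QuotientGroup.mk'_apply, QuotientGroup.eq_one_iff]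
    obtain ⟨hcomm, hsq⟩ := SuzukiModule.elementary_of_oddFree hS _ G rfl π
      (eQ.surjective.comp (QuotientGroup.mk'_surjective R)) (hker ▸ hR2)
      (hker ▸ fun x ho h1 r hr hc => eq_one_of_commute_core hCN hns hR ho h1 hr hc)
    rw [hker] at hcomm hsq
    refine Or.inr (Or.inr ⟨R, inferInstance, h0, hR2,
      ⟨⟨fun a b => Subtype.ext (hcomm a a.2 b b.2).eq⟩⟩, hsq, Or.inr ⟨?_, m, hS.one_le, ?_⟩⟩)
    · haveI := Suzuki.isSimpleGroup_sz hS
      exact eQ.isSimpleGroup
    · rw [Nat.card_congr eQ.toEquiv, Suzuki.card_sz hS, hS.card_eq]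

end CfsgLib.CNStructure
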