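import Cfsg.Agent.CNStructure.Basic
import Cfsg.Agent.CITGroups.Main
import Cfsg.Agent.CITGroups.CN
import Cfsg.Agent.CITGroups.SuzukiUpgrade
import Cfsg.Agent.Suzuki.LieModel
import Cfsg.Agent.EPPOSeven.Main
import Cfsg.Agent.S2475
import Cfsg.Agent.S0252
import Cfsg.Agent.S0253

/-!
# The simple groups with nilpotent centralisers
-/

set_option autoImplicit false
set_option linter.style.haveILetI false
set_option linter.unusedSectionVars false

namespace CfsgLib.CNStructure

open Subgroup

/-- A simple nonabelian `PSL₂` has at least four elements in the field. -/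
theorem four_le_card {G F : Type*} [Group G] [Finite G] [IsSimpleGroup G] [Field F] [Fintype F]
    (hna : ¬ IsMulCommutative G) (e : G ≃* Matrix.ProjectiveSpecialLinearGroup (Fin 2) F) :
    4 ≤ Fintype.card F := by
  by_contra h4
  have hmul := Linear.card_PSL_two_mul (F := F)
  have hc := Nat.card_congr e.toEquiv
  have hF1 : 1 < Fintype.card F := Fintype.one_lt_card
  haveI : Fact (Nat.Prime 3) := ⟨Nat.prime_three⟩
  haveI : Fact (Nat.Prime 2) := ⟨Nat.prime_two⟩
  rcases (show Fintype.card F = 2 ∨ Fintype.card F = 3 by omega) with h | h <;>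
    rw [h] at hmul <;> norm_num at hmul
  · have h6 : Nat.card G = 6 := by omega
    obtain ⟨P⟩ : Nonempty (Sylow 3 G) := inferInstance
    refine EPPOSeven.no_index_two hna (P : Subgroup G) ?_
    have hP3 : Nat.card (P : Subgroup G) = 3 := by
      rw [P.card_eq_multiplicity, h6, show 6 = 2 ^ 1 * 3 ^ 1 by norm_num,
        Nat.factorization_mul (by norm_num) (by norm_num), Finsupp.add_apply,
        Nat.prime_two.factorization_pow, Nat.prime_three.factorization_pow,
        Finsupp.single_eq_same, Finsupp.single_eq_of_ne (by norm_num)]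
      norm_num
    have := card_mul_index (P : Subgroup G)
    rw [hP3, h6] at this
    omega
  · exact Classification.DihedralBSW.card_ne_twelve (Classical.arbitrary (Sylow 2 G)) hna
      (by omega)

/-- The possible socles. -/
inductive SocleType (M : Type*) [Group M] : Prop
  | pslTwoEven (F : Type) (_ : Field F) (_ : Fintype F) (_ : CharP F 2) (_ : 4 ≤ Fintype.card F)
      (e : Nonempty (M ≃* Matrix.ProjectiveSpecialLinearGroup (Fin 2) F))
  | pslTwoNine (F : Type) (_ : Field F) (_ : Fintype F) (_ : Fintype.card F = 9)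
      (e : Nonempty (M ≃* Matrix.ProjectiveSpecialLinearGroup (Fin 2) F))
  | pslTwoPrime (F : Type) (_ : Field F) (_ : Fintype F) (p : ℕ) (_ : p.Prime)
      (_ : Fintype.card F = p) (_ : 7 ≤ p) (_ : p % 12 = 5 ∨ p % 12 = 7)
      (e : Nonempty (M ≃* Matrix.ProjectiveSpecialLinearGroup (Fin 2) F))
  | pslThree (F : Type) (_ : Field F) (_ : Fintype F) (_ : Fintype.card F = 4)
      (e : Nonempty (M ≃* Matrix.ProjectiveSpecialLinearGroup (Fin 3) F))
  | suzuki (F : Type) (_ : Field F) (_ : Fintype F) (m : ℕ) (_ : Suzuki.SzField F m)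
      (e : Nonempty (M ≃* Cfsg.Sz F m))

theorem mod_twelve {p k : ℕ} (hp : p.Prime) (h7 : 7 ≤ p) (hk : p = 2 ^ k + 1 ∨ p + 1 = 2 ^ k) :
    p % 12 = 5 ∨ p % 12 = 7 := by
  have h4 : ∀ j, 4 ^ (j + 1) % 12 = 4 := fun j => by
    induction j with
    | zero => norm_num
    | succ j ih => rw [pow_succ, Nat.mul_mod, ih]
  have h3 : ¬ 3 ∣ p := fun h => by
    have := (Nat.prime_dvd_prime_iff_eq Nat.prime_three hp).1 h
    omega
  obtain ⟨j, rfl | rfl⟩ := k.even_or_odd'
  · rw [pow_mul, show (2 : ℕ) ^ 2 = 4 from rfl] at hk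
    rcases j with _ | j
    · simp at hk; omega
    have := h4 j
    rcases hk with hk | hk
    · omega
    · omega
  · rw [pow_succ, pow_mul, show (2 : ℕ) ^ 2 = 4 from rfl] at hk
    rcases j with _ | j
    · simp at hk; omega
    have := h4 j
    rcases hk with hk | hk
    · omega
    · omega

/-- A nonabelian simple group with nilpotent centralisers is on the list. -/
theorem socleType {M : Type*} [Group M] [Finite M] [IsSimpleGroup M] (hMc : ¬ IsMulCommutative M)
    (hCN : Cfsg.IsCNGroup M) : SocleType M := by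
  have hna : ∃ a b : M, a * b ≠ b * a := by
    by_contra hc
    push Not at hc
    exact hMc ⟨⟨hc⟩⟩
  rcases CITGroups.simple_classification hna (CITGroups.isCIT_of_cn hna hCN) with
    ⟨F, i1, i2, hF, ⟨e⟩⟩ | ⟨F, i1, i2, hF, e⟩ | ⟨H, K, hS⟩
  · have h4 := four_le_card hMc e
    rcases hF with h9 | ⟨n, hn⟩ | ⟨hp, k, hk⟩
    · exact .pslTwoNine F i1 i2 h9 ⟨e⟩
    · haveI : Fact (Nat.Prime 2) := ⟨Nat.prime_two⟩
      exact .pslTwoEven F i1 i2 (charP_of_card_eq_prime_pow hn) h4 ⟨e⟩
    · by_cases h5 : Fintype.card F = 5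
      · obtain ⟨e5⟩ := Cfsg.Agent.S0253.result h5
        obtain ⟨e4⟩ := Cfsg.Agent.S0252.result Linear.card_gf4
        haveI : Fact (Nat.Prime 2) := ⟨Nat.prime_two⟩
        exact .pslTwoEven Linear.GF4 inferInstance inferInstance
          (charP_of_card_eq_prime_pow (f := 2) (show Fintype.card Linear.GF4 = 2 ^ 2 from Linear.card_gf4))
          (Linear.card_gf4).ge ⟨e.trans (e5.trans e4.symm)⟩
      · have h6 : Fintype.card F ≠ 6 := fun h => by rw [h] at hp; norm_num at hp
        have h4' : Fintype.card F ≠ 4 := fun h => by rw [h] at hp; norm_num at hp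
        have h7 : 7 ≤ Fintype.card F := by omega
        exact .pslTwoPrime F i1 i2 _ hp rfl h7 (mod_twelve hp h7 hk) ⟨e⟩
  · exact .pslThree F i1 i2 hF e
  · obtain ⟨F, i1, i2, m, hm, hF, ⟨e⟩⟩ := K.isoSuzuki hS
    exact .suzuki F i1 i2 m ⟨hm, hF⟩ ⟨e.trans (Suzuki.lieSzEquiv ⟨hm, hF⟩).symm⟩

/-- The centralisers of a subgroup of a group with nilpotent centralisers are nilpotent. -/
theorem isCNGroup_subgroup {G : Type*} [Group G] [Finite G] (hCN : Cfsg.IsCNGroup G)
    (M : Subgroup G) : Cfsg.IsCNGroup M := by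
  intro x hx
  haveI := hCN (x : G) fun h => hx (Subtype.ext h)
  haveI : Group.IsNilpotent ((centralizer ({x} : Set M)).map M.subtype) :=
    OddOrder.CN.isNilpotent_of_le (B := centralizer ({(x : G)} : Set G)) (by
      rintro _ ⟨y, hy, rfl⟩
      exact mem_centralizer_singleton_iff.2
        (congrArg Subtype.val (mem_centralizer_singleton_iff.1 hy))) ‹_›
  exact Group.nilpotent_of_mulEquiv
    (Subgroup.equivMapOfInjective (centralizer ({x} : Set M)) M.subtype M.subtype_injective).symm

end CfsgLib.CNStructure
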